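import Mathlib.Algebra.Category.ModuleCat.Sheaf.Quasicoherent
import Mathlib.Algebra.Category.ModuleCat.Presheaf.Submodule
import Mathlib.Algebra.Category.ModuleCat.Presheaf.Abelian
import Mathlib.Algebra.Category.ModuleCat.Sheaf.Limits
import Mathlib.Algebra.Homology.ShortComplex.ModuleCat

/-!
# Elements of sheaves of modules generated by sections
-/

universe u v' u'

open CategoryTheory Limits Opposite

set_option autoImplicit false
set_option linter.style.haveILetI false
set_option backward.isDefEq.respectTransparency false
set_option backward.isDefEq.respectTransparency.types false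

noncomputable section

namespace Groth.L09.ModGen

variable {C : Type u'} [Category.{v'} C] {J : GrothendieckTopology C} {R : Sheaf J RingCat.{u}}
  [HasSheafify J AddCommGrpCat.{u}] [J.WEqualsLocallyBijective AddCommGrpCat.{u}]
  {N : SheafOfModules.{u} R}

/-- The span of the values of a family of sections. -/
def spanSub {I : Type u} (s : I → N.sections) : N.val.Submodule where
  obj W := Submodule.span (R.obj.obj W) (Set.range fun i => (s i).eval W)
  map {W W'} f := Submodule.span_le.2 (by
    rintro _ ⟨i, rfl⟩
    exact Submodule.subset_span ⟨i, (PresheafOfModules.sections_property (s i) f).symm⟩)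

/-- Sections generating a sheaf of modules generate every section locally. -/
theorem exists_cover_mem_span (σ : N.GeneratingSections) (W : C) (m : N.val.obj (op W)) :
    ∃ T ∈ J W, ∀ ⦃W' : C⦄ (e : W' ⟶ W), T e →
      N.val.map e.op m ∈ Submodule.span (R.obj.obj (op W')) (Set.range fun i => (σ.s i).eval (op W')) := by
  let P := spanSub σ.s
  let c := cokernel.π P.ι
  let F := (PresheafOfModules.sheafification (𝟙 R.obj)).obj (cokernel P.ι)
  let η : cokernel P.ι ⟶ F.val := (PresheafOfModules.sheafificationAdjunction (𝟙 R.obj)).unit.app (cokernel P.ι)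
  let q : N ⟶ F := (SheafOfModules.fullyFaithfulForget R).preimage (c ≫ η)
  have hq₀ : q.val = c ≫ η := (SheafOfModules.fullyFaithfulForget R).map_preimage _
  have hc : ∀ (Z : Cᵒᵖ) (x : N.val.obj Z), c.app Z x = 0 ↔ x ∈ P.obj Z := fun Z x => by
    have hex := (ShortComplex.cokernelSequence_exact P.ι).map (PresheafOfModules.evaluation R.obj Z)
    rw [ShortComplex.moduleCat_exact_iff] at hex
    refine ⟨fun h => ?_, fun h => ?_⟩
    · obtain ⟨y, hy⟩ := hex x h
      rw [← hy]
      exact y.2
    · exact ConcreteCategory.congr_hom ((PresheafOfModules.evaluation R.obj Z).congr_map (cokernel.condition P.ι))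
        (⟨x, h⟩ : P.obj Z)
  have hq : q = 0 := by
    haveI := σ.epi
    rw [← cancel_epi σ.π, comp_zero]
    refine F.freeHomEquiv.injective (funext fun i => Subtype.ext (funext fun Z => ?_))
    rw [SheafOfModules.freeHomEquiv_comp_apply, Equiv.apply_symm_apply]
    show q.val.app Z ((σ.s i).eval Z) = _
    rw [hq₀]
    show η.app Z (c.app Z ((σ.s i).eval Z)) = _
    rw [(hc Z _).2 (Submodule.subset_span ⟨i, rfl⟩), map_zero]
    simp [SheafOfModules.freeHomEquiv]
    rfl
  have h0 : (CategoryTheory.toSheafify J (cokernel P.ι).presheaf).app (op W) (c.app (op W) m) = 0 := by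
    show η.app (op W) (c.app (op W) m) = 0
    have := ConcreteCategory.congr_hom ((PresheafOfModules.evaluation R.obj (op W)).congr_map
      (hq₀.symm.trans (congrArg (fun k => k.val) hq))) m
    exact this
  refine ⟨_, Presheaf.equalizerSieve_mem J (CategoryTheory.toSheafify J (cokernel P.ι).presheaf) (c.app (op W) m) 0
    (by rw [h0, map_zero]), fun W' e he => ?_⟩
  refine (hc (op W') _).1 ?_
  rw [PresheafOfModules.naturality_apply]
  exact he.trans (map_zero _)

/-- The coordinate projections of a free sheaf of modules. -/
def proj {I : Type u} (i : I) : SheafOfModules.free (R := R) I ⟶ SheafOfModules.unit R :=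
  open Classical in
  Cofan.IsColimit.desc (SheafOfModules.isColimitFreeCofan I) fun j => if j = i then 𝟙 _ else 0

open Classical in
theorem proj_freeSection {I : Type u} (i j : I) (Z : Cᵒᵖ) :
    ((proj i).val.app Z ((SheafOfModules.freeSection (R := R) j).eval Z) : R.obj.obj Z) =
      (if j = i then 1 else 0 : R.obj.obj Z) := by
  have h : SheafOfModules.ιFree j ≫ proj (R := R) i = if j = i then 𝟙 _ else 0 :=
    Cofan.IsColimit.fac (SheafOfModules.isColimitFreeCofan I) _ j
  have h' := congrArg (fun k => k.val.app Z (1 : R.obj.obj Z)) h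
  have e : (SheafOfModules.freeSection (R := R) j).eval Z = (SheafOfModules.ιFree j).val.app Z (1 : R.obj.obj Z) := by
    simp [SheafOfModules.freeHomEquiv]
    rfl
  rw [e]
  show ((SheafOfModules.ιFree j ≫ proj i).val.app Z) (1 : R.obj.obj Z) = _
  refine h'.trans ?_
  split_ifs with hji <;> rfl

open Classical in
/-- The projection of a combination of the tautological sections is its coefficient. -/
theorem proj_linearCombination {I : Type u} (i : I) (Z : Cᵒᵖ) (b : I →₀ R.obj.obj Z) :
    ((proj i).val.app Z (Finsupp.linearCombination (R.obj.obj Z)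
      (fun j => (SheafOfModules.freeSection (R := R) j).eval Z) b) : R.obj.obj Z) = b i := by
  induction b using Finsupp.induction_linear with
  | zero => simp
  | add x y hx hy => rw [map_add, map_add, Finsupp.add_apply]; exact congrArg₂ (· + ·) hx hy
  | single j r =>
    rw [Finsupp.linearCombination_single, map_smul]
    show r * _ = _
    rw [proj_freeSection, Finsupp.single_apply]
    split_ifs <;> simp [*]

theorem π_linearCombination (σ : N.GeneratingSections) (Z : Cᵒᵖ) (b : σ.I →₀ R.obj.obj Z) :
    σ.π.val.app Z (Finsupp.linearCombination (R.obj.obj Z)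
      (fun j => (SheafOfModules.freeSection (R := R) j).eval Z) b) =
      Finsupp.linearCombination (R.obj.obj Z) (fun j => (σ.s j).eval Z) b := by
  rw [Finsupp.apply_linearCombination]
  congr 2
  funext j
  exact congrArg (fun t => t.eval Z) (SheafOfModules.sectionsMap_freeHomEquiv_symm_freeSection σ.s j)

/-- Sections killed by a map come from its kernel. -/
theorem exists_kernel_lift {F G : SheafOfModules.{u} R} (f : F ⟶ G) {Z : Cᵒᵖ} (z : F.val.obj Z)
    (hz : f.val.app Z z = 0) : ∃ z' : (kernel f).val.obj Z, (kernel.ι f).val.app Z z' = z := by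
  have hl := isLimitOfHasKernelOfPreservesLimit (SheafOfModules.evaluation R Z) f
  obtain ⟨l, hl'⟩ := KernelFork.IsLimit.lift' hl
    (ModuleCat.ofHom (LinearMap.toSpanSingleton (R.obj.obj Z) (F.val.obj Z) z)) (ModuleCat.hom_ext (LinearMap.ext_ring (by
      show f.val.app Z ((1 : R.obj.obj Z) • z) = 0
      rw [one_smul, hz])))
  refine ⟨l (1 : R.obj.obj Z), ?_⟩
  have := ConcreteCategory.congr_hom hl' (1 : R.obj.obj Z)
  exact this.trans (one_smul _ z)

end Groth.L09.ModGen
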