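import Groth.Agent.L09.ModEt.FromQcoh

/-!
# Quasi-coherent modules: sections over affine objects commute with base change
-/

universe u

open CategoryTheory CategoryTheory.Limits AlgebraicGeometry Opposite AlgSp TensorProduct

set_option autoImplicit false
set_option linter.style.haveILetI false
set_option backward.isDefEq.respectTransparency false
set_option backward.isDefEq.respectTransparency.types false

noncomputable section

namespace Groth.L09.ModEt

variable {S : Scheme.{u}} {X : Sp S} (M : ModEt X)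

/-- Sections over `V`, as a module over the functions of an object under it. -/
@[reducible] def secVia {E V : EtOver X} (h : V ⟶ E) : Module (Γ₀ E) (sectModEt M V) := Module.compHom _ (pb h)

/-- Sections over `V` extended to the fibre product with `E'`. -/
def θx {E E' V : EtOver X} (g : E' ⟶ E) (h : V ⟶ E) :
    letI := (pb g).toAlgebra
    letI := secVia M h
    Γ₀ E' ⊗[Γ₀ E] sectModEt M V →+ sectModEt M (EtOver.pullbackObj g h) :=
  letI := (pb g).toAlgebra
  letI := secVia M h
  TensorProduct.liftAddHom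
    (AddMonoidHom.mk' (fun b => (DistribSMul.toAddMonoidHom (sectModEt M (EtOver.pullbackObj g h))
        (pb (EtOver.pullbackFst g h) b)).comp (res M (EtOver.pullbackSnd g h)))
      fun b b' => AddMonoidHom.ext fun m => by
        simp [map_add, add_smul])
    fun a b m => by
      show pb (EtOver.pullbackFst g h) (pb g a * b) • res M (EtOver.pullbackSnd g h) m =
        pb (EtOver.pullbackFst g h) b • res M (EtOver.pullbackSnd g h) (pb h a • m)
      rw [res_smul, smul_smul, map_mul, mul_comm, ← pb_comp, ← pb_comp, EtOver.pullback_condition]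

theorem θx_tmul {E E' V : EtOver X} (g : E' ⟶ E) (h : V ⟶ E) (b : Γ₀ E') (m : sectModEt M V) :
    letI := (pb g).toAlgebra
    letI := secVia M h
    θx M g h (b ⊗ₜ m) = pb (EtOver.pullbackFst g h) b • res M (EtOver.pullbackSnd g h) m := rfl

theorem bijective_θx {E E' V : EtOver X} [IsAffine E.obj.left.left] [IsAffine E'.obj.left.left]
    [IsAffine V.obj.left.left] (g : E' ⟶ E) (h : V ⟶ E) (hbc : BC M (EtOver.pullbackSnd g h)) :
    Function.Bijective (θx M g h) := by
  let W := EtOver.pullbackObj g h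
  let q : W ⟶ E' := EtOver.pullbackFst g h
  let s : W ⟶ V := EtOver.pullbackSnd g h
  letI := (pb g).toAlgebra
  letI := (pb h).toAlgebra
  letI := (pb q).toAlgebra
  letI := (pb s).toAlgebra
  letI : Algebra (Γ₀ E) (Γ₀ W) := (pb (q ≫ g)).toAlgebra
  letI := secVia M h
  haveI : IsScalarTower (Γ₀ E) (Γ₀ E') (Γ₀ W) := IsScalarTower.of_algebraMap_eq fun r => rfl
  haveI : IsScalarTower (Γ₀ E) (Γ₀ V) (Γ₀ W) := IsScalarTower.of_algebraMap_eq fun r => by
    show pb (q ≫ g) r = pb (s ≫ h) r
    rw [show q ≫ g = s ≫ h from EtOver.pullback_condition g h]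
  haveI : IsScalarTower (Γ₀ E) (Γ₀ V) (sectModEt M V) :=
    ⟨fun a b m => mul_smul (pb h a) b m⟩
  haveI : Algebra.IsPushout (Γ₀ E) (Γ₀ E') (Γ₀ V) (Γ₀ W) :=
    CommRingCat.isPushout_iff_isPushout.1 (isPushout_pb g h)
  exact bijective_cancel (θx M g h) (θ M s) hbc fun b m => rfl

/-- Sections of a module with local generators on a finite affine cover commute with affine base change. -/
theorem bc_of_cover {E E' : EtOver X} [IsAffine E.obj.left.left] [IsAffine E'.obj.left.left] (g : E' ⟶ E)
    {ι : Type u} [Finite ι] {V : ι → EtOver X} (c : ∀ k, V k ⟶ E) [∀ k, IsAffine (V k).obj.left.left]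
    (hc : IsCover c) (D : ∀ k, Data M (V k)) : BC M g := by
  let V₂ : ι × ι → EtOver X := fun l => EtOver.pullbackObj (c l.1) (c l.2)
  let f₁ : ∀ l, V₂ l ⟶ V l.1 := fun l => EtOver.pullbackFst (c l.1) (c l.2)
  let f₂ : ∀ l, V₂ l ⟶ V l.2 := fun l => EtOver.pullbackSnd (c l.1) (c l.2)
  let c₂ : ∀ l, V₂ l ⟶ E := fun l => f₁ l ≫ c l.1
  have hc₂ : ∀ l, f₁ l ≫ c l.1 = f₂ l ≫ c l.2 := fun l => EtOver.pullback_condition _ _
  haveI : ∀ l, IsAffine (V₂ l).obj.left.left := fun l => isAffine_pullback _ _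
  haveI : ∀ k, IsAffine (EtOver.pullbackObj g (c k)).obj.left.left := fun k => isAffine_pullback _ _
  haveI : ∀ l, IsAffine (EtOver.pullbackObj g (c₂ l)).obj.left.left := fun l => isAffine_pullback _ _
  letI := (pb g).toAlgebra
  letI := fun k => secVia M (c k)
  letI := fun l => secVia M (c₂ l)
  haveI : Module.Flat (Γ₀ E) (Γ₀ E') := flat_pb g
  let r : sectModEt M E →ₗ[Γ₀ E] Π k, sectModEt M (V k) :=
    { toFun := fun m k => res M (c k) m
      map_add' := fun m m' => funext fun k => map_add _ _ _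
      map_smul' := fun a m => funext fun k => res_smul M (c k) a m }
  let d : (Π k, sectModEt M (V k)) →ₗ[Γ₀ E] Π l, sectModEt M (V₂ l) :=
    { toFun := fun p l => res M (f₁ l) (p l.1) - res M (f₂ l) (p l.2)
      map_add' := fun p p' => funext fun l => by simp only [Pi.add_apply, map_add]; abel
      map_smul' := fun a p => funext fun l => by
        show res M (f₁ l) (pb (c l.1) a • p l.1) - res M (f₂ l) (pb (c l.2) a • p l.2) = pb (c₂ l) a • (_ - _)
        rw [res_smul, res_smul, smul_sub, ← pb_comp, ← pb_comp, ← hc₂] }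
  let u₁ : ∀ l, EtOver.pullbackObj g (c₂ l) ⟶ EtOver.pullbackObj g (c l.1) := fun l =>
    (EtOver.isPullback g (c l.1)).lift (EtOver.pullbackFst g (c₂ l)) (EtOver.pullbackSnd g (c₂ l) ≫ f₁ l)
      (by rw [EtOver.pullback_condition, Category.assoc])
  let u₂ : ∀ l, EtOver.pullbackObj g (c₂ l) ⟶ EtOver.pullbackObj g (c l.2) := fun l =>
    (EtOver.isPullback g (c l.2)).lift (EtOver.pullbackFst g (c₂ l)) (EtOver.pullbackSnd g (c₂ l) ≫ f₂ l)
      (by rw [EtOver.pullback_condition, Category.assoc, ← hc₂])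
  have hu₁ : ∀ l, u₁ l ≫ EtOver.pullbackFst g (c l.1) = EtOver.pullbackFst g (c₂ l) :=
    fun l => IsPullback.lift_fst _ _ _ _
  have hu₁' : ∀ l, u₁ l ≫ EtOver.pullbackSnd g (c l.1) = EtOver.pullbackSnd g (c₂ l) ≫ f₁ l :=
    fun l => IsPullback.lift_snd _ _ _ _
  have hu₂ : ∀ l, u₂ l ≫ EtOver.pullbackFst g (c l.2) = EtOver.pullbackFst g (c₂ l) :=
    fun l => IsPullback.lift_fst _ _ _ _
  have hu₂' : ∀ l, u₂ l ≫ EtOver.pullbackSnd g (c l.2) = EtOver.pullbackSnd g (c₂ l) ≫ f₂ l :=
    fun l => IsPullback.lift_snd _ _ _ _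
  let r' : sectModEt M E' →+ Π k, sectModEt M (EtOver.pullbackObj g (c k)) :=
    AddMonoidHom.mk' (fun t k => res M (EtOver.pullbackFst g (c k)) t) fun t t' => funext fun k => map_add _ _ _
  let d' : (Π k, sectModEt M (EtOver.pullbackObj g (c k))) →+ Π l, sectModEt M (EtOver.pullbackObj g (c₂ l)) :=
    AddMonoidHom.mk' (fun y l => res M (u₁ l) (y l.1) - res M (u₂ l) (y l.2)) fun y y' => funext fun l => by
      simp only [Pi.add_apply, map_add]; abel
  refine bijective_of_equalizer r d ?_ ?_ (θ M g) (fun k => θx M g (c k)) (fun l => θx M g (c₂ l))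
    (fun k => bijective_θx M g (c k) ((D k).bc _ (𝟙 _)))
    (fun l => bijective_θx M g (c₂ l) ((D l.1).bc _ (f₁ l))) r' d' ?_ ?_ ?_ ?_
  · exact fun m m' h => eq_of_cover M hc fun k => congrFun h k
  · intro p
    refine ⟨fun hp => ?_, ?_⟩
    · obtain ⟨m, hm⟩ := exists_glue M hc p fun i j => sub_eq_zero.1 (congrFun hp (i, j))
      exact ⟨m, funext hm⟩
    · rintro ⟨m, rfl⟩
      funext l
      show res M (f₁ l) (res M (c l.1) m) - res M (f₂ l) (res M (c l.2) m) = 0
      rw [res_congr M (hc₂ l), sub_self]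
  · exact fun t t' h => eq_of_cover M (hc.pullback g) fun k => congrFun h k
  · intro t
    funext l
    show res M (u₁ l) (res M _ t) - res M (u₂ l) (res M _ t) = 0
    rw [← res_comp, ← res_comp, hu₁, hu₂, sub_self]
  · intro b m k
    show res M (EtOver.pullbackFst g (c k)) (b • res M g m) =
      pb (EtOver.pullbackFst g (c k)) b • res M (EtOver.pullbackSnd g (c k)) (res M (c k) m)
    rw [res_smul, res_congr M (EtOver.pullback_condition g (c k))]
  · intro b p y hy l
    show res M (u₁ l) (y l.1) - res M (u₂ l) (y l.2) =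
      pb (EtOver.pullbackFst g (c₂ l)) b • res M (EtOver.pullbackSnd g (c₂ l)) (res M (f₁ l) (p l.1) - res M (f₂ l) (p l.2))
    rw [hy, hy, θx_tmul, θx_tmul, res_smul, res_smul, ← pb_comp, ← pb_comp, hu₁, hu₂, map_sub, smul_sub,
      res_congr M (hu₁' l), res_congr M (hu₂' l)]

/-- On a quasi-coherent module, sections over affine objects commute with base change. -/
theorem bc_of_isQuasicoherent [M.IsQuasicoherent] {E E' : EtOver X} [IsAffine E.obj.left.left]
    [IsAffine E'.obj.left.left] (g : E' ⟶ E) : BC M g := by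
  obtain ⟨q⟩ := SheafOfModules.IsQuasicoherent.nonempty_quasicoherentData (M := M)
  obtain ⟨ι, _, V, c, hV, hR, hc⟩ := exists_finite_cover (q.coversTop E)
  haveI := hV
  choose i hi using fun k => hR k
  exact bc_of_cover M g c hc fun k => (nonempty_data M (q.presentation (i k)) (hi k).some).some

end Groth.L09.ModEt
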