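import Groth.Prelude.Def_AlgSpModX
import Mathlib.AlgebraicGeometry.Morphisms.Affine
import Mathlib.AlgebraicGeometry.Limits
import Mathlib.CategoryTheory.Sites.Whiskering

/-!
# Sections of modules on the small etale site of a space
-/

universe u

open CategoryTheory CategoryTheory.Limits AlgebraicGeometry Opposite AlgSp

set_option autoImplicit false
set_option linter.style.haveILetI false
set_option backward.isDefEq.respectTransparency false
set_option backward.isDefEq.respectTransparency.types false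

noncomputable section

namespace Groth.L09.ModEt

variable {S : Scheme.{u}} {X : Sp S}

/-- Global functions on an object of the site. -/
abbrev Γ₀ (E : EtOver X) : CommRingCat.{u} := Γ(E.obj.left.left, ⊤)

/-- Pullback of functions. -/
abbrev pb {E E' : EtOver X} (g : E' ⟶ E) : Γ₀ E →+* Γ₀ E' := g.hom.left.left.appTop.hom

instance secModule (M : ModEt X) (E : EtOver X) : Module (Γ₀ E) (sectModEt M E) :=
  Module.compHom _ (upΓ E)

theorem smul_eq (M : ModEt X) {E : EtOver X} (a : Γ₀ E) (m : sectModEt M E) : a • m = upΓ E a • m := rfl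

/-- Restriction of sections. -/
def res (M : ModEt X) {E E' : EtOver X} (g : E' ⟶ E) : sectModEt M E →+ sectModEt M E' :=
  (M.val.presheaf.map g.op).hom

theorem res_apply (M : ModEt X) {E E' : EtOver X} (g : E' ⟶ E) (m : sectModEt M E) :
    res M g m = M.val.map g.op m := rfl

@[simp]
theorem res_smul (M : ModEt X) {E E' : EtOver X} (g : E' ⟶ E) (a : Γ₀ E) (m : sectModEt M E) :
    res M g (a • m) = pb g a • res M g m :=
  M.val.map_smul g.op (upΓ E a) m

theorem res_comp (M : ModEt X) {E E' E'' : EtOver X} (h : E'' ⟶ E') (g : E' ⟶ E) (m : sectModEt M E) :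
    res M (h ≫ g) m = res M h (res M g m) :=
  ConcreteCategory.congr_hom (M.val.presheaf.map_comp g.op h.op) m

@[simp]
theorem res_id (M : ModEt X) {E : EtOver X} (m : sectModEt M E) : res M (𝟙 E) m = m :=
  ConcreteCategory.congr_hom (M.val.presheaf.map_id (op E)) m

theorem res_congr (M : ModEt X) {E₀ E₁ E₂ E : EtOver X} {a : E₀ ⟶ E₁} {b : E₁ ⟶ E} {c : E₀ ⟶ E₂} {d : E₂ ⟶ E}
    (h : a ≫ b = c ≫ d) (m : sectModEt M E) : res M a (res M b m) = res M c (res M d m) := by
  rw [← res_comp, ← res_comp, h]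

theorem pb_comp {E E' E'' : EtOver X} (h : E'' ⟶ E') (g : E' ⟶ E) (a : Γ₀ E) :
    pb (h ≫ g) a = pb h (pb g a) := rfl

@[simp]
theorem pb_id {E : EtOver X} (a : Γ₀ E) : pb (𝟙 E) a = a := by
  show (𝟙 E : E ⟶ E).hom.left.left.appTop.hom a = a
  simp [Scheme.Hom.id_app]

theorem flat_pb {E E' : EtOver X} (g : E' ⟶ E) [IsAffine E.obj.left.left] [IsAffine E'.obj.left.left] :
    (pb g).Flat := by
  haveI := EtOver.etale_left g
  haveI : Flat g.hom.left.left := inferInstance
  exact (HasRingHomProperty.iff_of_isAffine (P := @Flat)).1 this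

theorem isSheaf_type (M : ModEt X) : Presieve.IsSheaf (etTop X) (M.val.presheaf ⋙ CategoryTheory.forget _) :=
  (isSheaf_iff_isSheaf_of_type _ _).1 (Presheaf.isSheaf_comp_of_isSheaf _ _ _ M.isSheaf)

/-- A family with fixed target is jointly surjective. -/
def IsCover {E : EtOver X} {ι : Type*} {V : ι → EtOver X} (c : ∀ i, V i ⟶ E) : Prop :=
  ∀ x : ↥E.obj.left.left, ∃ i, x ∈ Set.range (c i).hom.left.left

theorem eq_of_cover (M : ModEt X) {E : EtOver X} {ι : Type*} {V : ι → EtOver X} {c : ∀ i, V i ⟶ E} (hc : IsCover c)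
    {s t : sectModEt M E} (h : ∀ i, res M (c i) s = res M (c i) t) : s = t := by
  refine ((isSheaf_type M).isSeparated _ (ofArrows_mem_etTop V c hc)).ext fun W g hg => ?_
  obtain ⟨i, a, rfl⟩ := (Sieve.mem_ofArrows_iff _ _ _).1 hg
  exact (res_comp M a (c i) s).trans ((congrArg _ (h i)).trans (res_comp M a (c i) t).symm)

theorem exists_glue (M : ModEt X) {E : EtOver X} {ι : Type*} {V : ι → EtOver X} {c : ∀ i, V i ⟶ E} (hc : IsCover c)
    (t : ∀ i, sectModEt M (V i))
    (h : ∀ i j, res M (EtOver.pullbackFst (c i) (c j)) (t i) = res M (EtOver.pullbackSnd (c i) (c j)) (t j)) :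
    ∃ s, ∀ i, res M (c i) s = t i := by
  have hcompat : Presieve.Arrows.Compatible (M.val.presheaf ⋙ CategoryTheory.forget _) c t := by
    intro i j Z gi gj e
    obtain ⟨l, h₁, h₂⟩ := (EtOver.isPullback (c i) (c j)).exists_lift gi gj e
    show res M gi (t i) = res M gj (t j)
    rw [← h₁, ← h₂, res_comp, res_comp, h]
  obtain ⟨s, hs, -⟩ := ((Presieve.isSheafFor_arrows_iff _ _).mp
    ((Presieve.isSheafFor_iff_generate _).mpr (isSheaf_type M _ (ofArrows_mem_etTop V c hc)))) t hcompat
  exact ⟨s, hs⟩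

theorem IsCover.pullback {E E' : EtOver X} (g : E' ⟶ E) {ι : Type*} {V : ι → EtOver X} {c : ∀ i, V i ⟶ E}
    (hc : IsCover c) : IsCover (fun i => EtOver.pullbackFst g (c i)) := by
  intro x
  obtain ⟨i, v, hv⟩ := hc (g.hom.left.left x)
  obtain ⟨w, hw, -⟩ := Scheme.exists_preimage_of_isPullback
    ((EtOver.isPullback g (c i)).map (EtOver.toScheme X)) x v hv.symm
  exact ⟨i, w, hw⟩

theorem isAffine_pullback {E₀ E₁ E₂ : EtOver X} (g₁ : E₁ ⟶ E₀) (g₂ : E₂ ⟶ E₀) [IsAffine E₀.obj.left.left]
    [IsAffine E₁.obj.left.left] [IsAffine E₂.obj.left.left] :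
    IsAffine (EtOver.pullbackObj g₁ g₂).obj.left.left := by
  haveI : IsAffine (pullback ((EtOver.toScheme X).map g₁) ((EtOver.toScheme X).map g₂)) :=
    inferInstanceAs (IsAffine (pullback g₁.hom.left.left g₂.hom.left.left))
  exact IsAffine.of_isIso ((EtOver.isPullback g₁ g₂).map (EtOver.toScheme X)).isoPullback.hom

theorem isPushout_pb {E₀ E₁ E₂ : EtOver X} (g₁ : E₁ ⟶ E₀) (g₂ : E₂ ⟶ E₀) [IsAffine E₀.obj.left.left]
    [IsAffine E₁.obj.left.left] [IsAffine E₂.obj.left.left] :
    CategoryTheory.IsPushout g₁.hom.left.left.appTop g₂.hom.left.left.appTop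
      (EtOver.pullbackFst g₁ g₂).hom.left.left.appTop (EtOver.pullbackSnd g₁ g₂).hom.left.left.appTop :=
  isPushout_appTop_of_isPullback ((EtOver.isPullback g₁ g₂).map (EtOver.toScheme X))

/-- An affine open of the scheme of an object, as an object. -/
abbrev openObj (E : EtOver X) (B : E.obj.left.left.Opens) : EtOver X :=
  EtOver.mk (U := Over.mk (B.ι ≫ E.obj.left.hom))
    ((yon S).map (Over.homMk B.ι rfl : Over.mk (B.ι ≫ E.obj.left.hom) ⟶ E.obj.left) ≫ E.obj.hom)
    ((repWith_isMultiplicative (S := S) @Etale).comp_mem _ _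
      ((repWith_yon_map_iff _ _).2 (show Etale B.ι from inferInstance)) E.property)

/-- The inclusion of an open. -/
abbrev openι (E : EtOver X) (B : E.obj.left.left.Opens) : openObj E B ⟶ E :=
  EtOver.homMk (Over.homMk B.ι rfl) rfl

theorem exists_refinement {E : EtOver X} {R : Sieve E} (hR : R ∈ etTop X E)
    (x : ↥E.obj.left.left) :
    ∃ (V : EtOver X) (_ : IsAffine V.obj.left.left) (g : V ⟶ E), R g ∧ x ∈ Set.range g.hom.left.left := by
  obtain ⟨P, hP, hle⟩ := Precoverage.mem_toGrothendieck_iff_of_isStableUnderComposition.1 hR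
  obtain ⟨ι, U, c, rfl⟩ := P.exists_eq_ofArrows
  rw [ofArrows_mem_etPre_iff] at hP
  obtain ⟨i, y, hy⟩ := hP x
  obtain ⟨_, ⟨(B : (U i).obj.left.left.Opens), hB, rfl⟩, hyB, -⟩ :=
    (U i).obj.left.left.isBasis_affineOpens.exists_subset_of_mem_open (Set.mem_univ y) isOpen_univ
  exact ⟨openObj (U i) B, hB, openι (U i) B ≫ c i, R.downward_closed (hle _ _ ⟨i⟩) _, ⟨y, hyB⟩, hy⟩

theorem exists_finite_cover {E : EtOver X} [CompactSpace E.obj.left.left] {R : Sieve E} (hR : R ∈ etTop X E) :
    ∃ (ι : Type u) (_ : Finite ι) (V : ι → EtOver X) (g : ∀ i, V i ⟶ E),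
      (∀ i, IsAffine (V i).obj.left.left) ∧ (∀ i, R (g i)) ∧ IsCover g := by
  choose V hV g hg hx using fun x : ↥E.obj.left.left => exists_refinement hR x
  haveI := fun x => EtOver.etale_left (g x)
  obtain ⟨t, ht⟩ := isCompact_univ.elim_finite_subcover (fun x => Set.range (g x).hom.left.left)
    (fun x => (g x).hom.left.left.isOpenMap.isOpen_range) (fun x _ => Set.mem_iUnion.2 ⟨x, hx x⟩)
  refine ⟨t, inferInstance, fun i => V i, fun i => g i, fun i => hV i, fun i => hg i, fun x => ?_⟩
  obtain ⟨i, hi, h⟩ := Set.mem_iUnion₂.1 (ht (Set.mem_univ x))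
  exact ⟨⟨i, hi⟩, h⟩

section Sigma

variable {E : EtOver X} {ι : Type u} (V : ι → EtOver X) (g : ∀ i, V i ⟶ E)

/-- A disjoint union of objects over a given one. -/
abbrev sigmaObj : EtOver X :=
  EtOver.mk (U := Over.mk (Sigma.desc (fun i => (g i).hom.left.left) ≫ E.obj.left.hom))
    ((yon S).map (Over.homMk (Sigma.desc fun i => (g i).hom.left.left) rfl :
      Over.mk (Sigma.desc (fun i => (g i).hom.left.left) ≫ E.obj.left.hom) ⟶ E.obj.left) ≫ E.obj.hom)
    ((repWith_isMultiplicative (S := S) @Etale).comp_mem _ _ ((repWith_yon_map_iff _ _).2 (by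
      show Etale (Sigma.desc fun i => (g i).hom.left.left)
      exact IsZariskiLocalAtSource.sigmaDesc fun i => EtOver.etale_left (g i))) E.property)

/-- The map from the disjoint union. -/
abbrev sigmaDesc : sigmaObj V g ⟶ E := EtOver.homMk (Over.homMk (Sigma.desc fun i => (g i).hom.left.left) rfl) rfl

/-- The inclusions into the disjoint union. -/
def sigmaι (i : ι) : V i ⟶ sigmaObj V g :=
  EtOver.homMk (Over.homMk (Sigma.ι (fun i => (V i).obj.left.left) i) (by
    show _ ≫ Sigma.desc _ ≫ _ = _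
    rw [Sigma.ι_desc_assoc, Over.w (g i).hom.left])) (by
    show (yon S).map _ ≫ (yon S).map _ ≫ E.obj.hom = _
    rw [← Category.assoc, ← Functor.map_comp]
    refine (congrArg (fun k => (yon S).map k ≫ E.obj.hom) ?_).trans (EtOver.w (g i))
    exact Over.OverMorphism.ext (Sigma.ι_desc _ _))

@[reassoc (attr := simp)]
theorem sigmaι_desc (i : ι) : sigmaι V g i ≫ sigmaDesc V g = g i :=
  EtOver.hom_ext _ _ (Over.OverMorphism.ext (Sigma.ι_desc _ _))

theorem isCover_sigmaι : IsCover (sigmaι V g) := fun x => by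
  obtain ⟨i, y, hy⟩ := (sigmaMk (fun i => (V i).obj.left.left)).surjective x |>
    fun ⟨⟨i, y⟩, h⟩ => (⟨i, y, (sigmaMk_mk (fun i => (V i).obj.left.left) i y).symm.trans h⟩ :
      ∃ i y, Sigma.ι (fun i => (V i).obj.left.left) i y = x)
  exact ⟨i, y, hy⟩

theorem eq_of_sigma (M : ModEt X) {s t : sectModEt M (sigmaObj V g)}
    (h : ∀ i, res M (sigmaι V g i) s = res M (sigmaι V g i) t) : s = t :=
  eq_of_cover M (isCover_sigmaι V g) h

theorem exists_glue_sigma (M : ModEt X) (t : ∀ i, sectModEt M (V i)) :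
    ∃ s, ∀ i, res M (sigmaι V g i) s = t i := by
  refine exists_glue M (isCover_sigmaι V g) t fun i j => ?_
  by_cases e : i = j
  · subst e
    haveI : Mono (sigmaι V g i) := ⟨fun a b h => EtOver.hom_ext _ _ (Over.OverMorphism.ext
      ((cancel_mono (Sigma.ι (fun i => (V i).obj.left.left) i)).1 (congrArg (fun k => k.hom.left.left) h)))⟩
    rw [(cancel_mono (sigmaι V g i)).1 (EtOver.pullback_condition (sigmaι V g i) (sigmaι V g i))]
  · haveI : IsEmpty (EtOver.pullbackObj (sigmaι V g i) (sigmaι V g j)).obj.left.left := ⟨fun x => by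
      have h := congrArg (fun k => k.hom.left.left x) (EtOver.pullback_condition (sigmaι V g i) (sigmaι V g j))
      exact e (congrArg Sigma.fst ((sigmaMk (fun i => (V i).obj.left.left)).injective
        ((sigmaMk_mk (fun i => (V i).obj.left.left) i _).trans
          (h.trans (sigmaMk_mk (fun i => (V i).obj.left.left) j _).symm))))⟩
    exact eq_of_cover M (ι := PEmpty.{1}) (V := PEmpty.elim) (c := fun i => i.elim) (fun x => isEmptyElim x)
      fun i => i.elim

instance [Finite ι] [∀ i, IsAffine (V i).obj.left.left] : IsAffine (sigmaObj V g).obj.left.left :=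
  inferInstanceAs (IsAffine (∐ fun i => (V i).obj.left.left))

theorem surjective_sigmaDesc (hg : IsCover g) : Function.Surjective (sigmaDesc V g).hom.left.left := fun x => by
  obtain ⟨i, y, hy⟩ := hg x
  refine ⟨(sigmaι V g i).hom.left.left y, ?_⟩
  rw [← hy]
  exact congrArg (fun k => k.hom.left.left y) (sigmaι_desc V g i)

end Sigma

end Groth.L09.ModEt
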