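import Groth.Agent.L09.ModEt.WeakAssMore
import Groth.Agent.L20.WeakAssFinite
import Groth.Agent.L23.AffineMor
import Groth.Agent.L23.Decent3
import Groth.Prelude.Def_AlgSpOX2

/-!
# Weakly associated points of direct images
-/

universe u

open CategoryTheory CategoryTheory.Limits AlgebraicGeometry Opposite AlgSp TensorProduct

set_option autoImplicit false
set_option linter.style.haveILetI false
set_option backward.isDefEq.respectTransparency false
set_option backward.isDefEq.respectTransparency.types false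

noncomputable section

namespace Groth.L09.ModEt

open Groth.L09.WA

theorem annE_eq {A : Type u} [CommRing A] {N : Type*} [AddCommGroup N] [Module A N] (n : N) :
    Groth.L03.WeakAss.annE A n = WA.ann A n :=
  Ideal.ext fun _ => Groth.L03.WeakAss.mem_annE

theorem isWA_iff_weakAss {A : Type u} [CommRing A] {N : Type*} [AddCommGroup N] [Module A N] (p : Ideal A) :
    IsWA A N p ↔ p ∈ FlatCA.weakAss A N :=
  ⟨fun ⟨n, h⟩ => ⟨n, by show p ∈ (Groth.L03.WeakAss.annE A n).minimalPrimes; rwa [annE_eq]⟩,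
    fun ⟨n, h⟩ => ⟨n, by rw [← annE_eq]; exact h⟩⟩

theorem primeAtPt_injective (U : Scheme.{u}) [IsAffine U] : Function.Injective (primeAtPt U) := fun u v h => by
  have h' : U.toSpecΓ u = U.toSpecΓ v := PrimeSpectrum.ext h
  exact ((Scheme.Hom.homeomorph U.toSpecΓ).injective h')

variable {S : Scheme.{u}} {X Y : Sp S} {f : X ⟶ Y} (hf : Representable f) (M : ModEt X)

/-- Functions pulled back to the base change of a chart. -/
abbrev πbc (E : EtOver Y) : Γ₀ E →+* Γ₀ (EtOver.bcObj hf E) := (EtOver.bcπ hf E).left.appTop.hom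

/-- A section of the direct image as a section over the base change. -/
abbrev unpush (E : EtOver Y) (s : sectModEt ((pushModEt hf).obj M) E) : sectModEt M (EtOver.bcObj hf E) := s

theorem annSect_push (E : EtOver Y) (s : sectModEt ((pushModEt hf).obj M) E) :
    annSect s = (annSect (M := M) (E := EtOver.bcObj hf E) (unpush hf M E s)).comap (πbc hf E) :=
  Ideal.ext fun _ => Iff.rfl

theorem isAffine_bcObj (hfa : RepWith @IsAffineHom f) (E : EtOver Y) [IsAffine E.obj.left.left] :
    IsAffine (EtOver.bcObj hf E).obj.left.left := by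
  haveI : IsAffineHom (EtOver.bcπ hf E).left := Groth.L23.repWith_snd hfa E.obj.hom
  exact isAffine_of_isAffineHom (EtOver.bcπ hf E).left

theorem map_ofPt_bcObj (E : EtOver Y) (w : (EtOver.bcObj hf E).obj.left.left) :
    Points.map f (Points.ofPt (EtOver.bcObj hf E).obj.hom w) =
      Points.ofPt E.obj.hom ((EtOver.bcπ hf E).left w) := by
  rw [Points.map_ofPt, show (EtOver.bcObj hf E).obj.hom ≫ f = (yon S).map (EtOver.bcπ hf E) ≫ E.obj.hom
    from (EtOver.isPullback_bcObj hf E).w, Groth.L23.ofPt_comp]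

theorem weakAss_push_subset (hfa : RepWith @IsAffineHom f) :
    WeakAssEt ((pushModEt hf).obj M) ⊆ Points.map f '' WeakAssEt M := by
  rintro y ⟨E, hE, u, rfl, s, hs⟩
  haveI := isAffine_bcObj hf hfa E
  rw [annSect_push] at hs
  let I := annSect (M := M) (E := EtOver.bcObj hf E) (unpush hf M E s)
  obtain ⟨P', hP', hIP', hP'p⟩ := Ideal.exists_comap_eq_of_mem_minimalPrimes (πbc hf E) (I := I) _ hs
  haveI := hP'
  obtain ⟨Q, hQ, hQP'⟩ := Ideal.exists_minimalPrimes_le hIP'
  haveI := hQ.1.1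
  have hQp : Q.comap (πbc hf E) = primeAtPt E.obj.left.left u :=
    le_antisymm ((Ideal.comap_mono hQP').trans hP'p.le)
      (hs.2 ⟨inferInstance, Ideal.comap_mono hQ.1.2⟩ ((Ideal.comap_mono hQP').trans hP'p.le))
  obtain ⟨w, hw⟩ := exists_primeAtPt _ Q
  refine ⟨Points.ofPt (EtOver.bcObj hf E).obj.hom w, ⟨EtOver.bcObj hf E, inferInstance, w, rfl,
    unpush hf M E s, by rw [hw]; exact hQ⟩, ?_⟩
  rw [map_ofPt_bcObj]
  refine congrArg _ (primeAtPt_injective _ ?_)
  rw [← comap_primeAtPt, hw]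
  exact hQp

/-- Weakly associated points push forward when they do on charts. -/
theorem image_weakAss_subset [M.IsQuasicoherent] (hY : IsAlgSpace Y) (hfa : RepWith @IsAffineHom f)
    (hchart : ∀ (E : EtOver Y) [IsAffine E.obj.left.left] [IsAffine (EtOver.bcObj hf E).obj.left.left]
      (w : (EtOver.bcObj hf E).obj.left.left), IsWeakAssOn M (EtOver.bcObj hf E) w →
      IsWeakAssOn ((pushModEt hf).obj M) E ((EtOver.bcπ hf E).left w)) :
    Points.map f '' WeakAssEt M ⊆ WeakAssEt ((pushModEt hf).obj M) := by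
  rintro y ⟨x, hx, rfl⟩
  obtain ⟨E, hE, u, hu⟩ := exists_affine_chart hY (Points.map f x)
  haveI := isAffine_bcObj hf hfa E
  obtain ⟨w, hw, hwu⟩ := Groth.L23.exists_point_of_isPullback (EtOver.isPullback_bcObj hf E) (x := x) (u := u) hu.symm
  obtain ⟨E', hE', u', hu', hwa⟩ := hx
  refine ⟨E, hE, u, hu, hwu ▸ hchart E w ?_⟩
  exact (isWeakAssOn_congr M w u' (hw.trans hu'.symm)).2 hwa

theorem isWeakAssOn_push_of_finite (hfin : RepWith @IsFinite f) (E : EtOver Y) [IsAffine E.obj.left.left]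
    [IsAffine (EtOver.bcObj hf E).obj.left.left]
    (w : (EtOver.bcObj hf E).obj.left.left) (h : IsWeakAssOn M (EtOver.bcObj hf E) w) :
    IsWeakAssOn ((pushModEt hf).obj M) E ((EtOver.bcπ hf E).left w) := by
  haveI : IsFinite (EtOver.bcπ hf E).left := Groth.L23.repWith_snd hfin E.obj.hom
  letI := (πbc hf E).toAlgebra
  haveI : Module.Finite (Γ₀ E) (Γ₀ (EtOver.bcObj hf E)) :=
    RingHom.finite_algebraMap.1 ((HasAffineProperty.iff_of_isAffine (P := @IsFinite)).1 ‹_›).2
  letI : Module (Γ₀ E) (sectModEt M (EtOver.bcObj hf E)) := secModule ((pushModEt hf).obj M) E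
  haveI : IsScalarTower (Γ₀ E) (Γ₀ (EtOver.bcObj hf E)) (sectModEt M (EtOver.bcObj hf E)) :=
    ⟨fun a b m => by
      show upΓ (EtOver.bcObj hf E) (πbc hf E a * b) • m =
        upΓ (EtOver.bcObj hf E) (πbc hf E a) • upΓ (EtOver.bcObj hf E) b • m
      rw [map_mul, mul_smul]⟩
  haveI : (primeAtPt (EtOver.bcObj hf E).obj.left.left w).LiesOver
      (primeAtPt E.obj.left.left ((EtOver.bcπ hf E).left w)) :=
    ⟨(comap_primeAtPt (EtOver.bcπ hf E).left w).symm⟩
  rw [isWeakAssOn_iff_isWA, isWA_iff_weakAss] at h ⊢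
  exact Groth.L20.WeakAssFinite.under_mem_weakAss (N := sectModEt M (EtOver.bcObj hf E)) _ _ h

theorem isWeakAssOn_push_of_noeth (hX : ∀ E : EtOver X, IsLocallyNoetherian E.obj.left.left) (E : EtOver Y)
    [IsAffine E.obj.left.left] [IsAffine (EtOver.bcObj hf E).obj.left.left]
    (w : (EtOver.bcObj hf E).obj.left.left) (h : IsWeakAssOn M (EtOver.bcObj hf E) w) :
    IsWeakAssOn ((pushModEt hf).obj M) E ((EtOver.bcπ hf E).left w) := by
  haveI := hX (EtOver.bcObj hf E)
  haveI : IsNoetherianRing (Γ₀ (EtOver.bcObj hf E)) :=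
    IsLocallyNoetherian.component_noetherian ⟨⊤, isAffineOpen_top _⟩
  rw [isWeakAssOn_iff_isWA, isWA_iff_weakAss] at h
  obtain ⟨-, m, hm⟩ := Groth.L03.WeakAss.mem_ass_of_mem_weakAss_of_fg (IsNoetherian.noetherian _) h
  refine ⟨(show sectModEt ((pushModEt hf).obj M) E from m), ?_⟩
  rw [annSect_push]
  have : annSect (M := M) (E := EtOver.bcObj hf E) m = primeAtPt _ w := (annE_eq m).symm.trans hm.symm
  rw [show unpush hf M E (show sectModEt ((pushModEt hf).obj M) E from m) = m from rfl, this,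
    comap_primeAtPt]
  exact ⟨⟨inferInstance, le_rfl⟩, fun Q hQ _ => hQ.2⟩

end Groth.L09.ModEt
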