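import Groth.Agent.L09.ModEt.Main

/-!
# Modules whose sections commute with affine base change are quasi-coherent
-/

universe u

open CategoryTheory CategoryTheory.Limits AlgebraicGeometry Opposite AlgSp TensorProduct

set_option autoImplicit false
set_option linter.style.haveILetI false
set_option backward.isDefEq.respectTransparency false
set_option backward.isDefEq.respectTransparency.types false

noncomputable section

namespace Groth.L09.ModEt

variable {S : Scheme.{u}} {X : Sp S} {W : EtOver X}

theorem mem_span_up (N : SheafOfModules.{u + 1} (OOn W)) {O : Over W} {I : Type (u + 1)}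
    (v : I → N.val.obj (op O)) {m : N.val.obj (op O)} (h : m ∈ Submodule.span (Γ₀ O.left) (Set.range v)) :
    m ∈ Submodule.span ((OOn W).obj.obj (op O)) (Set.range v) := by
  induction h using Submodule.span_induction with
  | mem y hy => exact Submodule.subset_span hy
  | zero => exact zero_mem _
  | add x y _ _ hx hy => exact add_mem hx hy
  | smul r x _ hx => exact Submodule.smul_mem _ (upΓ O.left r : (OOn W).obj.obj (op O)) hx

/-- Sections which locally span the values on affine objects generate. -/
theorem epi_of_local_span (N : SheafOfModules.{u + 1} (OOn W)) {I : Type (u + 1)} (s : I → N.sections)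
    (H : ∀ (O : Over W) (z : N.val.obj (op O)), IsAffine O.left.obj.left.left →
      ∃ T ∈ etTop X O.left, ∀ ⦃W' : EtOver X⦄ (e : W' ⟶ O.left), T e → ∀ (a : W' ⟶ W) (w : e ≫ O.hom = a),
        resN N (Over.homMk e w : Over.mk a ⟶ O) z ∈
          Submodule.span ((OOn W).obj.obj (op (Over.mk a))) (Set.range fun i => (s i).eval (op (Over.mk a)))) :
    Epi (N.freeHomEquiv.symm s) := by
  refine ⟨fun {P} g h hgh => ?_⟩
  have hs : ∀ i (O : Over W), g.val.app (op O) ((s i).eval (op O)) = h.val.app (op O) ((s i).eval (op O)) := by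
    intro i O
    have := congrArg (fun k => (SheafOfModules.freeHomEquiv _ k i).eval (op O)) hgh
    simp only [SheafOfModules.freeHomEquiv_comp_apply, Equiv.apply_symm_apply] at this
    exact this
  have hP : Presieve.IsSheaf ((etTop X).over W) (P.val.presheaf ⋙ CategoryTheory.forget _) :=
    (isSheaf_iff_isSheaf_of_type _ _).1 (Presheaf.isSheaf_comp_of_isSheaf _ _ _ P.isSheaf)
  have sep : ∀ (O : Over W) (p q : P.val.obj (op O)) (T : Sieve O.left), T ∈ etTop X O.left →
      (∀ ⦃W' : EtOver X⦄ (e : W' ⟶ O.left), T e → ∀ (a : W' ⟶ W) (w : e ≫ O.hom = a),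
        resN P (Over.homMk e w : Over.mk a ⟶ O) p = resN P (Over.homMk e w : Over.mk a ⟶ O) q) → p = q := by
    intro O p q T hT hpq
    refine (hP.isSeparated ((Sieve.overEquiv O).symm T) ((GrothendieckTopology.mem_over_iff _ _).2
      (((Sieve.overEquiv O).apply_symm_apply T).symm ▸ hT))).ext fun O' φ hφ => ?_
    exact hpq φ.left hφ O'.hom (Over.w φ)
  have haff : ∀ (O : Over W), IsAffine O.left.obj.left.left → ∀ z, g.val.app (op O) z = h.val.app (op O) z := by
    intro O hO z
    obtain ⟨T, hT, hspan⟩ := H O z hO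
    refine sep O _ _ T hT fun W' e he a w => ?_
    rw [← resN_nat g, ← resN_nat h]
    have := hspan e he a w
    generalize resN N (Over.homMk e w : Over.mk a ⟶ O) z = y at this ⊢
    induction this using Submodule.span_induction with
    | mem y hy => obtain ⟨i, rfl⟩ := hy; exact hs i _
    | zero => rw [map_zero, map_zero]
    | add x y _ _ hx hy => rw [map_add, map_add, hx, hy]
    | smul r x _ hx => rw [map_smul, map_smul, hx]
  refine SheafOfModules.hom_ext (PresheafOfModules.Hom.ext (funext fun O => ModuleCat.hom_ext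
    (LinearMap.ext fun z => ?_)))
  refine sep O.unop _ _ (Sieve.ofArrows _ fun B : O.unop.left.obj.left.left.affineOpens => openι O.unop.left B.1)
    (ofArrows_mem_etTop _ _ fun x => ?_) fun W' e he a w => ?_
  · obtain ⟨_, ⟨(B : O.unop.left.obj.left.left.Opens), hB, rfl⟩, hxB, -⟩ :=
      O.unop.left.obj.left.left.isBasis_affineOpens.exists_subset_of_mem_open (Set.mem_univ x) isOpen_univ
    exact ⟨⟨B, hB⟩, ⟨x, hxB⟩, rfl⟩
  · obtain ⟨B, l, rfl⟩ := (Sieve.mem_ofArrows_iff _ _ _).1 he
    subst w
    let φ : Over.mk ((l ≫ openι O.unop.left B.1) ≫ O.unop.hom) ⟶ Over.mk (openι O.unop.left B.1 ≫ O.unop.hom) :=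
      Over.homMk l (Category.assoc _ _ _).symm
    let ψ : Over.mk (openι O.unop.left B.1 ≫ O.unop.hom) ⟶ O.unop := Over.homMk (openι O.unop.left B.1) rfl
    rw [← resN_nat g, ← resN_nat h]
    have e₁ : resN N (Over.homMk (l ≫ openι O.unop.left B.1) rfl :
        Over.mk ((l ≫ openι O.unop.left B.1) ≫ O.unop.hom) ⟶ O.unop) z = resN N φ (resN N ψ z) := by
      have : (Over.homMk (l ≫ openι O.unop.left B.1) rfl :
        Over.mk ((l ≫ openι O.unop.left B.1) ≫ O.unop.hom) ⟶ O.unop) = φ ≫ ψ := Over.OverMorphism.ext rfl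
      rw [this]
      exact ConcreteCategory.congr_hom (N.val.presheaf.map_comp ψ.op φ.op) z
    rw [e₁, resN_nat g, resN_nat h, haff (Over.mk (openι O.unop.left B.1 ≫ O.unop.hom)) B.2]

theorem res_linearCombination_id (M : ModEt X) {O : Over W} (b : sectModEt M W →₀ Γ₀ W) :
    res M O.hom (Finsupp.linearCombination (Γ₀ W) id b) =
      Finsupp.linearCombination (Γ₀ O.left) (fun m => res M O.hom m) (push O.hom b) := by
  induction b using Finsupp.induction_linear with
  | zero => simp
  | add x y hx hy => simp only [map_add, hx, hy]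
  | single i r => simp [push]

theorem freeHomEquiv_zero (N : SheafOfModules.{u + 1} (OOn W)) {J : Type (u + 1)} (j : J) :
    N.freeHomEquiv (0 : SheafOfModules.free (R := OOn W) J ⟶ N) j =
      PresheafOfModules.sectionsMk (fun _ => 0) fun _ _ _ => map_zero _ := by
  refine Subtype.ext (funext fun O => ?_)
  simp [SheafOfModules.freeHomEquiv]
  rfl

/-- The tautological sections over an object. -/
def tautSec (M : ModEt X) (m : sectModEt M W) : (M.over W).sections :=
  PresheafOfModules.sectionsMk (fun O => res M O.unop.hom m) fun O O' φ => by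
    show res M φ.unop.left (res M O.unop.hom m) = res M O'.unop.hom m
    rw [← res_comp, Over.w]

variable (M : ModEt X)

theorem relations_affine {O : Over W} (hBC : BC M O.hom) (y : sectModEt M W →₀ Γ₀ O.left)
    (hy : Finsupp.linearCombination (Γ₀ O.left) (fun m => res M O.hom m) y = 0) :
    y ∈ Submodule.span (Γ₀ O.left) (Set.range fun c : LinearMap.ker
      (Finsupp.linearCombination (Γ₀ W) (id : sectModEt M W → sectModEt M W)) => push O.hom c.1) := by
  letI := (pb O.hom).toAlgebra
  let σ₀ := Finsupp.linearCombination (Γ₀ W) (id : sectModEt M W → sectModEt M W)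
  let P := LinearMap.ker σ₀
  let q : (sectModEt M W →₀ Γ₀ W) ⧸ P →ₗ[Γ₀ W] sectModEt M W := P.liftQ σ₀ le_rfl
  have hq : Function.Injective q := LinearMap.ker_eq_bot.1 (Submodule.ker_liftQ_eq_bot' P σ₀ rfl)
  have hqs : Function.Surjective q := fun m => ⟨P.mkQ (Finsupp.single m 1), by simp [q, σ₀]⟩
  have key : ∀ z : sectModEt M W →₀ Γ₀ O.left,
      θ M O.hom (LinearMap.lTensor (Γ₀ O.left) q (cls (Γ₀ O.left) P z)) =
        Finsupp.linearCombination (Γ₀ O.left) (fun m => res M O.hom m) z := fun z => by
    induction z using Finsupp.induction_linear with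
    | zero => simp
    | add x y hx hy => simp only [map_add, hx, hy]
    | single i r =>
      rw [cls_single, LinearMap.lTensor_tmul, θ_tmul]
      simp [q, σ₀]
  have h0 : cls (Γ₀ O.left) P y = 0 := by
    refine (LinearEquiv.ofBijective q ⟨hq, hqs⟩).lTensor (Γ₀ O.left) |>.injective ?_
    rw [map_zero]
    refine hBC.1 ?_
    rw [map_zero]
    exact (key y).trans hy
  refine (Submodule.span_le.2 ?_ : extSpan (Γ₀ O.left) P ≤ _) (mem_extSpan_iff.2 h0)
  rintro _ ⟨c, hc, rfl⟩
  exact Submodule.subset_span ⟨⟨c, hc⟩, Finsupp.ext fun _ => rfl⟩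

/-- Generating sections over an affine object. -/
theorem epi_tautSec (hBC : ∀ (W' : EtOver X) [IsAffine W'.obj.left.left] (g : W' ⟶ W), BC M g) :
    Epi ((M.over W).freeHomEquiv.symm (tautSec M (W := W))) := by
  refine epi_of_local_span _ _ fun O z hO => ⟨⊤, (etTop X).top_mem _, fun W' e _ a w => ?_⟩
  subst w
  haveI : IsAffine O.left.obj.left.left := hO
  letI := (pb O.hom).toAlgebra
  obtain ⟨t, ht⟩ := (hBC O.left O.hom).2 z
  have hz : resN (M.over W) (Over.homMk e rfl : Over.mk (e ≫ O.hom) ⟶ O) z = res M e (θ M O.hom t) := by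
    rw [ht]; rfl
  rw [hz]
  refine mem_span_up (M.over W) (O := Over.mk (e ≫ O.hom)) _ ?_
  clear hz ht
  induction t using TensorProduct.induction_on with
  | zero => rw [map_zero, map_zero]; exact zero_mem _
  | tmul b m =>
    rw [θ_tmul, res_smul, ← res_comp]
    exact Submodule.smul_mem _ (pb e b) (Submodule.subset_span ⟨m, rfl⟩)
  | add t t' ht ht' => rw [map_add, map_add]; exact add_mem ht ht'

variable {M}

theorem app_sum_eq {K N : SheafOfModules.{u + 1} (OOn W)} (ι : K ⟶ N) (O : Over W) {J I : Type (u + 1)}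
    (k : J → K.val.obj (op O)) (b : J → I →₀ Γ₀ O.left) (L : (I →₀ Γ₀ O.left) →ₗ[Γ₀ O.left] N.val.obj (op O))
    (h : ∀ j, ι.val.app (op O) (k j) = L (b j)) (d : J →₀ Γ₀ O.left) :
    ι.val.app (op O) (d.sum fun j r => r • k j) = L (d.sum fun j r => r • b j) := by
  rw [map_finsuppSum, map_finsuppSum]
  refine Finsupp.sum_congr fun j _ => ?_
  rw [app_smul, map_smul, h]

theorem epi_lift_aux {σ : (M.over W).GeneratingSections} {K : SheafOfModules.{u + 1} (OOn W)} (ι : K ⟶ SheafOfModules.free (R := OOn W) σ.I)
    {J : Type (u + 1)} (k : J → K.sections) (c : J → σ.I →₀ Γ₀ W)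
    (hinj : ∀ (O : Over W), Function.Injective (ι.val.app (op O)))
    (hι : ∀ (O : Over W) (z : K.val.obj (op O)), σ.π.val.app (op O) (ι.val.app (op O) z) = 0)
    (hk : ∀ j (O : Over W), ι.val.app (op O) ((k j).eval (op O)) = Finsupp.linearCombination (Γ₀ O.left)
      (fun i => (SheafOfModules.freeSection (R := OOn W) i).eval (op O)) (push O.hom (c j)))
    (hrel : ∀ (O : Over W), IsAffine O.left.obj.left.left → ∀ y : σ.I →₀ Γ₀ O.left,
      Finsupp.linearCombination (Γ₀ O.left) (fun i => (σ.s i).eval (op O)) y = 0 →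
        y ∈ Submodule.span (Γ₀ O.left) (Set.range fun j => push O.hom (c j))) :
    Epi (K.freeHomEquiv.symm k) := by
  refine epi_of_local_span K k fun O z hO => ?_
  haveI : IsAffine O.left.obj.left.left := hO
  refine Exists.elim (exists_span (SheafOfModules.free (R := OOn W) σ.I) (freeGen σ.I) O (ι.val.app (op O) z))
    fun T hT => ?_
  obtain ⟨κ, _, V, g, hV, hg, hcov⟩ := exists_finite_cover hT.1
  refine ⟨Sieve.ofArrows V g, ofArrows_mem_etTop V g hcov, fun W' e he a w => ?_⟩
  subst w
  obtain ⟨i, l, rfl⟩ := (Sieve.mem_ofArrows_iff _ _ _).1 he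
  let O₁ : Over W := Over.mk (g i ≫ O.hom)
  let ψ : O₁ ⟶ O := Over.homMk (g i) rfl
  let φ : Over.mk ((l ≫ g i) ≫ O.hom) ⟶ O₁ := Over.homMk l (Category.assoc _ _ _).symm
  have e₁ : resN K (Over.homMk (l ≫ g i) rfl : Over.mk ((l ≫ g i) ≫ O.hom) ⟶ O) z = resN K φ (resN K ψ z) := by
    have : (Over.homMk (l ≫ g i) rfl : Over.mk ((l ≫ g i) ≫ O.hom) ⟶ O) = φ ≫ ψ := Over.OverMorphism.ext rfl
    rw [this]
    exact ConcreteCategory.congr_hom (K.val.presheaf.map_comp ψ.op φ.op) z
  rw [e₁]
  suffices hmain : resN K ψ z ∈ Submodule.span (Γ₀ O₁.left) (Set.range fun j => (k j).eval (op O₁)) by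
    generalize resN K ψ z = x at hmain ⊢
    induction hmain using Submodule.span_induction with
    | mem x hx =>
      obtain ⟨j, rfl⟩ := hx
      rw [resN_sections]
      exact Submodule.subset_span ⟨j, rfl⟩
    | zero => rw [map_zero]; exact zero_mem _
    | add x y _ _ hx hy => rw [map_add]; exact add_mem hx hy
    | smul r x _ hx =>
      have : resN K φ (r • x) = (upΓ _ (pb l r) : (OOn W).obj.obj (op (Over.mk ((l ≫ g i) ≫ O.hom)))) •
          resN K φ x := K.val.map_smul φ.op (upΓ O₁.left r : (OOn W).obj.obj (op O₁)) x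
      rw [this]
      exact Submodule.smul_mem _ _ hx
  have hspan := hT.2 (g i) (hg i) (g i ≫ O.hom) rfl
  refine Exists.elim (Finsupp.mem_span_range_iff_exists_finsupp.1 hspan) fun y hy => ?_
  have hy' : Finsupp.linearCombination (Γ₀ O₁.left)
      (fun i => (SheafOfModules.freeSection (R := OOn W) i).eval (op O₁)) y =
        ι.val.app (op O₁) (resN K ψ z) := by
    rw [resN_nat ι]
    exact (Finsupp.linearCombination_apply _ _).trans hy
  have hy0 : Finsupp.linearCombination (Γ₀ O₁.left) (fun i => (σ.s i).eval (op O₁)) y = 0 :=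
    (π_comb σ O₁ y).symm.trans ((congrArg (fun t => σ.π.val.app (op O₁) t) hy').trans (hι O₁ _))
  have hmem := hrel O₁ (hV i) y hy0
  refine Exists.elim (Finsupp.mem_span_range_iff_exists_finsupp.1 hmem) fun d hd => ?_
  refine Finsupp.mem_span_range_iff_exists_finsupp.2 ⟨d, hinj O₁ ?_⟩
  refine Eq.trans ?_ hy'
  exact app_sum_eq ι O₁ (fun j => (k j).eval (op O₁)) (fun j => push O₁.hom (c j))
    (Finsupp.linearCombination (Γ₀ O₁.left)
      (fun i => (SheafOfModules.freeSection (R := OOn W) i).eval (op O₁)))
    (fun j => hk j O₁) d |>.trans (congrArg _ hd)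

theorem push_comb {I : Type (u + 1)} {O O' : Over W} (φ : O' ⟶ O) (b : I →₀ Γ₀ O.left) :
    resN (SheafOfModules.free (R := OOn W) I) φ (Finsupp.linearCombination (Γ₀ O.left)
      (fun i => (SheafOfModules.freeSection (R := OOn W) i).eval (op O)) b) =
    Finsupp.linearCombination (Γ₀ O'.left)
      (fun i => (SheafOfModules.freeSection (R := OOn W) i).eval (op O')) (push φ.left b) := by
  induction b using Finsupp.induction_linear with
  | zero => simp
  | add x y hx hy => simp only [map_add, hx, hy]
  | single i r =>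
    rw [show push φ.left (Finsupp.single i r) = Finsupp.single i (pb φ.left r) by simp [push],
      Finsupp.linearCombination_single, Finsupp.linearCombination_single]
    refine ((SheafOfModules.free (R := OOn W) I).val.map_smul φ.op
      (upΓ O.left r : (OOn W).obj.obj (op O)) _).trans ?_
    rw [PresheafOfModules.sections_property]
    rfl

/-- A relation over the base as a section of a free module. -/
def relSec (I : Type (u + 1)) (b : I →₀ Γ₀ W) : (SheafOfModules.free (R := OOn W) I).sections :=
  PresheafOfModules.sectionsMk (fun O => Finsupp.linearCombination (Γ₀ O.unop.left)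
    (fun i => (SheafOfModules.freeSection (R := OOn W) i).eval (op O.unop)) (push O.unop.hom b))
    fun O O' φ => (push_comb φ.unop _).trans (by rw [← push_comp, Over.w])

variable (M)

/-- A module commuting with affine base change over an affine object has a presentation there. -/
theorem nonempty_presentation (hBC : ∀ (W' : EtOver X) [IsAffine W'.obj.left.left] (g : W' ⟶ W), BC M g) :
    Nonempty (M.over W).Presentation := by
  let σ : (M.over W).GeneratingSections :=
    { I := sectModEt M W
      s := tautSec M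
      epi := epi_tautSec M hBC }
  let P := LinearMap.ker (Finsupp.linearCombination (Γ₀ W) (id : sectModEt M W → sectModEt M W))
  let fs : P → (SheafOfModules.free (R := OOn W) σ.I).sections := fun c => relSec σ.I c.1
  let F := (SheafOfModules.free (R := OOn W) σ.I).freeHomEquiv.symm fs
  have hF : F ≫ σ.π = 0 := by
    refine (M.over W).freeHomEquiv.injective (funext fun c => Subtype.ext (funext fun O => ?_))
    rw [SheafOfModules.freeHomEquiv_comp_apply, Equiv.apply_symm_apply]
    show σ.π.val.app (op O.unop) ((fs c).eval (op O.unop)) = _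
    refine (π_comb σ O.unop _).trans ?_
    show Finsupp.linearCombination (Γ₀ O.unop.left) (fun m => res M O.unop.hom m) _ = _
    rw [← res_linearCombination_id, LinearMap.mem_ker.1 c.2, map_zero]
    rw [freeHomEquiv_zero]
    rfl
  refine ⟨{ generators := σ, relations := ⟨P, (kernel σ.π).freeHomEquiv (kernel.lift σ.π F hF), ?_⟩ }⟩
  refine epi_lift_aux (σ := σ) (kernel.ι σ.π) _ (fun c => c.1) (fun O => ?_) (fun O z =>
    ConcreteCategory.congr_hom ((SheafOfModules.evaluation (OOn W) (op O)).congr_map (kernel.condition σ.π)) z)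
    (fun c O => ?_) fun O hO y hy => ?_
  · exact (ModuleCat.mono_iff_injective ((SheafOfModules.evaluation (OOn W) (op O)).map (kernel.ι σ.π))).1
      inferInstance
  · have := congrArg (fun k => (SheafOfModules.freeHomEquiv _ k c).eval (op O)) (kernel.lift_ι σ.π F hF)
    simp only [SheafOfModules.freeHomEquiv_comp_apply] at this
    refine this.trans ?_
    simp only [F, Equiv.apply_symm_apply]
    rfl
  · haveI := hO
    exact relations_affine M (hBC O.left O.hom) y hy

/-- Modules commuting with base change over a covering family of affine objects are quasi-coherent. -/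
theorem isQuasicoherent_of_bc {ι : Type (u + 1)} (W : ι → EtOver X)
    (hW : (etTop X).CoversTop W)
    (hBC : ∀ (i : ι) (W' : EtOver X) [IsAffine W'.obj.left.left] (g : W' ⟶ W i), BC M g) :
    M.IsQuasicoherent := by
  have h := fun i => nonempty_presentation M (W := W i) (hBC i)
  let P₀ : ∀ i, (M.over (W i)).Presentation := fun i => (h i).some
  exact (SheafOfModules.QuasicoherentData.mk (M := M) ι W hW P₀).isQuasicoherent

end Groth.L09.ModEt
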