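import Groth.Agent.L09.ModEt.Algebra

/-!
# Cocycles of degree one in the Amitsur complex with coefficients in any universe
-/

universe u v

open TensorProduct

set_option autoImplicit false
set_option backward.isDefEq.respectTransparency.types false

noncomputable section

namespace Groth.L09.ModEt

variable (A S : Type u) [CommRing A] [CommRing S] [Algebra A S]

/-- Multiplication of the first two factors. -/
def ctr₁ (Q : Type*) [AddCommGroup Q] [Module A Q] : S ⊗[A] (S ⊗[A] Q) →ₗ[A] S ⊗[A] Q :=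
  (LinearMap.mul' A S).rTensor Q ∘ₗ (TensorProduct.assoc A S S Q).symm.toLinearMap

@[simp] theorem ctr₁_tmul (Q : Type*) [AddCommGroup Q] [Module A Q] (a b : S) (x : Q) :
    ctr₁ A S Q (a ⊗ₜ (b ⊗ₜ x)) = (a * b) ⊗ₜ x := by simp [ctr₁]

/-- Cocycles are coboundaries. -/
theorem exists_sub_of_cocycle [Module.FaithfullyFlat A S] {Q : Type v} [AddCommGroup Q] [Module A Q]
    (w : (S ⊗[A] S) ⊗[A] Q)
    (hw : LinearMap.rTensor Q (Algebra.TensorProduct.includeRight : S ⊗[A] S →ₐ[A] S ⊗[A] (S ⊗[A] S)).toLinearMap w +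
        LinearMap.rTensor Q (Algebra.TensorProduct.map (AlgHom.id A S)
          (Algebra.TensorProduct.includeLeft : S →ₐ[A] S ⊗[A] S)).toLinearMap w =
      LinearMap.rTensor Q (Algebra.TensorProduct.map (AlgHom.id A S)
          (Algebra.TensorProduct.includeRight : S →ₐ[A] S ⊗[A] S)).toLinearMap w) :
    ∃ x : S ⊗[A] Q, LinearMap.rTensor Q (Algebra.TensorProduct.includeRight : S →ₐ[A] S ⊗[A] S).toLinearMap x -
      LinearMap.rTensor Q (Algebra.TensorProduct.includeLeft : S →ₐ[A] S ⊗[A] S).toLinearMap x = w := by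
  set d₀ := LinearMap.rTensor Q (Algebra.TensorProduct.includeRight : S →ₐ[A] S ⊗[A] S).toLinearMap -
      LinearMap.rTensor Q (Algebra.TensorProduct.includeLeft : S →ₐ[A] S ⊗[A] S).toLinearMap with hd₀
  set d₁ := LinearMap.rTensor Q
        (Algebra.TensorProduct.includeRight : S ⊗[A] S →ₐ[A] S ⊗[A] (S ⊗[A] S)).toLinearMap -
      LinearMap.rTensor Q (Algebra.TensorProduct.map (AlgHom.id A S)
        (Algebra.TensorProduct.includeRight : S →ₐ[A] S ⊗[A] S)).toLinearMap +
      LinearMap.rTensor Q (Algebra.TensorProduct.map (AlgHom.id A S)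
        (Algebra.TensorProduct.includeLeft : S →ₐ[A] S ⊗[A] S)).toLinearMap with hd₁
  let h₁ : S ⊗[A] ((S ⊗[A] S) ⊗[A] Q) →ₗ[A] S ⊗[A] (S ⊗[A] Q) :=
    ctr₁ A S (S ⊗[A] Q) ∘ₗ (TensorProduct.assoc A S S Q).toLinearMap.lTensor S
  let h₂ : S ⊗[A] ((S ⊗[A] (S ⊗[A] S)) ⊗[A] Q) →ₗ[A] S ⊗[A] ((S ⊗[A] S) ⊗[A] Q) :=
    ctr₁ A S ((S ⊗[A] S) ⊗[A] Q) ∘ₗ (TensorProduct.assoc A S (S ⊗[A] S) Q).toLinearMap.lTensor S
  have key : ∀ z, d₀.lTensor S (h₁ z) + h₂ (d₁.lTensor S z) = z := by
    intro z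
    induction z using TensorProduct.induction_on with
    | zero => simp
    | add u v hu hv => simp only [map_add]; rw [add_add_add_comm, hu, hv]
    | tmul b z =>
      induction z using TensorProduct.induction_on with
      | zero => simp
      | add u v hu hv => simp only [tmul_add, map_add]; rw [add_add_add_comm, hu, hv]
      | tmul q m =>
        induction q using TensorProduct.induction_on with
        | zero => simp
        | add u v hu hv => simp only [add_tmul, tmul_add, map_add]; rw [add_add_add_comm, hu, hv]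
        | tmul x y => simp [h₁, h₂, hd₀, hd₁, tmul_add, tmul_sub]
  have hcomp : d₁ ∘ₗ d₀ = 0 := TensorProduct.ext' fun y m => by
    simp [hd₀, hd₁, Algebra.TensorProduct.one_def]
  have hex : Function.Exact d₀ d₁ := by
    refine (Module.FaithfullyFlat.lTensor_exact_iff_exact A S d₀ d₁).1 fun z => ⟨fun hz => ⟨h₁ z, ?_⟩, ?_⟩
    · have := key z
      rwa [hz, map_zero, add_zero] at this
    · rintro ⟨v, rfl⟩
      rw [← LinearMap.comp_apply, ← LinearMap.lTensor_comp, hcomp, LinearMap.lTensor_zero, LinearMap.zero_apply]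
  refine (hex w).1 ?_
  show _ - _ + _ = (0 : (S ⊗[A] (S ⊗[A] S)) ⊗[A] Q)
  exact ((sub_add_eq_add_sub _ _ _).trans (sub_eq_zero.2 hw))

end Groth.L09.ModEt
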