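import Groth.Agent.L09.ModEt.Exact
import Groth.Agent.L09.ModEt.Amitsur

/-!
# Extensions of quasi-coherent modules on the small etale site
-/

universe u

open CategoryTheory CategoryTheory.Limits AlgebraicGeometry Opposite AlgSp TensorProduct

set_option autoImplicit false
set_option linter.style.haveILetI false
set_option backward.isDefEq.respectTransparency false
set_option backward.isDefEq.respectTransparency.types false

noncomputable section

namespace Groth.L09.ModEt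

variable {S : Scheme.{u}} {X : Sp S}

theorem exists_cover_range {M N : ModEt X} (g : M ⟶ N) [Epi g] (W : EtOver X) (t : sectModEt N W) :
    ∃ R ∈ etTop X W, ∀ ⦃V : EtOver X⦄ (e : V ⟶ W), R e → ∃ m, sapp g V m = res N e t := by
  let c := cokernel.π g.val
  let F := (PresheafOfModules.sheafification (𝟙 (OEtRing X).obj)).obj (cokernel g.val)
  let ν : cokernel g.val ⟶ F.val :=
    (PresheafOfModules.sheafificationAdjunction (𝟙 (OEtRing X).obj)).unit.app (cokernel g.val)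
  let q : N ⟶ F := (SheafOfModules.fullyFaithfulForget (OEtRing X)).preimage (c ≫ ν)
  have hq₀ : q.val = c ≫ ν := (SheafOfModules.fullyFaithfulForget (OEtRing X)).map_preimage _
  have hc : ∀ (Z : (EtOver X)ᵒᵖ) (x : N.val.obj Z), c.app Z x = 0 → ∃ m, g.val.app Z m = x := fun Z x h => by
    have hex := (ShortComplex.cokernelSequence_exact g.val).map (PresheafOfModules.evaluation (OEtRing X).obj Z)
    rw [ShortComplex.moduleCat_exact_iff] at hex
    exact hex x h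
  have hq : q = 0 := by
    refine (cancel_epi g).1 (SheafOfModules.hom_ext ?_)
    rw [comp_zero]
    show g.val ≫ q.val = 0
    rw [hq₀, ← Category.assoc, show g.val ≫ c = 0 from cokernel.condition g.val, zero_comp]
  have h0 : (CategoryTheory.toSheafify (etTop X) (cokernel g.val).presheaf).app (op W) (c.app (op W) t) = 0 := by
    show ν.app (op W) (c.app (op W) t) = 0
    exact ConcreteCategory.congr_hom ((PresheafOfModules.evaluation (OEtRing X).obj (op W)).congr_map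
      (hq₀.symm.trans (congrArg (fun k => k.val) hq))) t
  refine ⟨_, Presheaf.equalizerSieve_mem (etTop X) (CategoryTheory.toSheafify (etTop X) (cokernel g.val).presheaf)
    (c.app (op W) t) 0 (by rw [h0, map_zero]), fun V e he => hc (op V) _ ?_⟩
  rw [res_apply, PresheafOfModules.naturality_apply]
  exact he.trans (map_zero _)

theorem ringHom_ext_pullback {E V₁ V₂ : EtOver X} [IsAffine E.obj.left.left] [IsAffine V₁.obj.left.left]
    [IsAffine V₂.obj.left.left] (c₁ : V₁ ⟶ E) (c₂ : V₂ ⟶ E) {R : Type u} [CommRing R]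
    {f f' : Γ₀ (EtOver.pullbackObj c₁ c₂) →+* R}
    (h₁ : ∀ a, f (pb (EtOver.pullbackFst c₁ c₂) a) = f' (pb (EtOver.pullbackFst c₁ c₂) a))
    (h₂ : ∀ a, f (pb (EtOver.pullbackSnd c₁ c₂) a) = f' (pb (EtOver.pullbackSnd c₁ c₂) a)) : f = f' :=
  congrArg CommRingCat.Hom.hom ((isPushout_pb c₁ c₂).hom_ext (k := CommRingCat.ofHom f) (l := CommRingCat.ofHom f')
    (CommRingCat.hom_ext (RingHom.ext h₁)) (CommRingCat.hom_ext (RingHom.ext h₂)))

/-- One-cocycles of a quasi-coherent module on an affine cover are coboundaries. -/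
theorem exists_coboundary (M : ModEt X) [M.IsQuasicoherent] {E V : EtOver X} [IsAffine E.obj.left.left]
    [IsAffine V.obj.left.left] (d : V ⟶ E) (hd : Function.Surjective d.hom.left.left)
    (z : sectModEt M (EtOver.pullbackObj d d))
    (hz : ∀ (T : EtOver X) (r₁ r₂ r₃ : T ⟶ V) (q₁₂ q₂₃ q₁₃ : T ⟶ EtOver.pullbackObj d d),
      q₁₂ ≫ EtOver.pullbackFst d d = r₁ → q₁₂ ≫ EtOver.pullbackSnd d d = r₂ →
      q₂₃ ≫ EtOver.pullbackFst d d = r₂ → q₂₃ ≫ EtOver.pullbackSnd d d = r₃ →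
      q₁₃ ≫ EtOver.pullbackFst d d = r₁ → q₁₃ ≫ EtOver.pullbackSnd d d = r₃ →
      res M q₂₃ z + res M q₁₂ z = res M q₁₃ z) :
    ∃ a, res M (EtOver.pullbackSnd d d) a - res M (EtOver.pullbackFst d d) a = z := by
  let W₂ := EtOver.pullbackObj d d
  let p₁ : W₂ ⟶ V := EtOver.pullbackFst d d
  let p₂ : W₂ ⟶ V := EtOver.pullbackSnd d d
  have hp : p₁ ≫ d = p₂ ≫ d := EtOver.pullback_condition d d
  let W₃ := EtOver.pullbackObj (p₁ ≫ d) d
  haveI : IsAffine W₂.obj.left.left := isAffine_pullback _ _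
  haveI : IsAffine W₃.obj.left.left := isAffine_pullback _ _
  let f : W₃ ⟶ W₂ := EtOver.pullbackFst (p₁ ≫ d) d
  let r₃ : W₃ ⟶ V := EtOver.pullbackSnd (p₁ ≫ d) d
  let r₁ := f ≫ p₁
  let r₂ := f ≫ p₂
  have h13 : r₁ ≫ d = r₃ ≫ d := by
    rw [Category.assoc]
    exact EtOver.pullback_condition (p₁ ≫ d) d
  have h23 : r₂ ≫ d = r₃ ≫ d := by
    rw [Category.assoc, ← hp, ← Category.assoc]
    exact h13
  let q₂₃ : W₃ ⟶ W₂ := (EtOver.isPullback d d).lift r₂ r₃ h23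
  let q₁₃ : W₃ ⟶ W₂ := (EtOver.isPullback d d).lift r₁ r₃ h13
  have h23₁ : q₂₃ ≫ p₁ = r₂ := IsPullback.lift_fst _ _ _ _
  have h23₂ : q₂₃ ≫ p₂ = r₃ := IsPullback.lift_snd _ _ _ _
  have h13₁ : q₁₃ ≫ p₁ = r₁ := IsPullback.lift_fst _ _ _ _
  have h13₂ : q₁₃ ≫ p₂ = r₃ := IsPullback.lift_snd _ _ _ _
  letI := (pb d).toAlgebra
  letI := (pb (p₁ ≫ d)).toAlgebra
  letI := (pb (f ≫ p₁ ≫ d)).toAlgebra
  haveI : Module.FaithfullyFlat (Γ₀ E) (Γ₀ V) := Data.faithfullyFlat_pb d hd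
  let A := Γ₀ E
  let B := Γ₀ V
  let P₁ : B →ₐ[A] Γ₀ W₂ := { pb p₁ with commutes' := fun r => (pb_comp p₁ d r).symm }
  let P₂ : B →ₐ[A] Γ₀ W₂ :=
    { pb p₂ with
      commutes' := fun r => by
        show pb p₂ (pb d r) = pb (p₁ ≫ d) r
        rw [hp, pb_comp] }
  obtain ⟨ψ₀, hψ₁, hψ₂⟩ := Groth.L09.Pull.exists_split (g := fun _ : PUnit.{u + 1} => d) PUnit.unit PUnit.unit
  let ψ : Γ₀ W₂ →ₐ[A] B ⊗[A] B :=
    { ψ₀ with
      commutes' := fun r => by
        show ψ₀ (pb (p₁ ≫ d) r) = _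
        rw [pb_comp]
        exact (hψ₁ _).trans (Algebra.TensorProduct.algebraMap_apply r).symm }
  have hψ₁' : ∀ a, ψ (pb p₁ a) = a ⊗ₜ 1 := hψ₁
  have hψ₂' : ∀ a, ψ (pb p₂ a) = 1 ⊗ₜ a := hψ₂
  let φ : B ⊗[A] B →ₐ[A] Γ₀ W₂ := Algebra.TensorProduct.lift P₁ P₂ fun _ _ => Commute.all _ _
  have hφψ : ∀ b, φ (ψ b) = b := fun b => DFunLike.congr_fun (ringHom_ext_pullback d d
    (f := φ.toRingHom.comp ψ.toRingHom) (f' := RingHom.id _)
    (fun a => by
      show φ (ψ (pb p₁ a)) = pb p₁ a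
      rw [hψ₁', Algebra.TensorProduct.lift_tmul, map_one, mul_one]
      rfl)
    (fun a => by
      show φ (ψ (pb p₂ a)) = pb p₂ a
      rw [hψ₂', Algebra.TensorProduct.lift_tmul, map_one, one_mul]
      rfl)) b
  let iL := Algebra.TensorProduct.map (AlgHom.id A B) (Algebra.TensorProduct.includeLeft : B →ₐ[A] B ⊗[A] B)
  let iM := Algebra.TensorProduct.map (AlgHom.id A B) (Algebra.TensorProduct.includeRight : B →ₐ[A] B ⊗[A] B)
  let iR : B ⊗[A] B →ₐ[A] B ⊗[A] (B ⊗[A] B) := Algebra.TensorProduct.includeRight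
  let uL : Γ₀ W₂ →ₐ[A] B ⊗[A] (B ⊗[A] B) := iL.comp ψ
  let uR : B →ₐ[A] B ⊗[A] (B ⊗[A] B) := iR.comp Algebra.TensorProduct.includeRight
  have hu : ∀ r, uL (pb (p₁ ≫ d) r) = uR (pb d r) := fun r => (uL.commutes r).trans (uR.commutes r).symm
  have hp3 := isPushout_pb (p₁ ≫ d) d
  let ψ₃₀ : Γ₀ W₃ ⟶ CommRingCat.of (B ⊗[A] (B ⊗[A] B)) :=
    hp3.desc (CommRingCat.ofHom uL.toRingHom) (CommRingCat.ofHom uR.toRingHom)
      (CommRingCat.hom_ext (RingHom.ext hu))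
  have hf₀ : ∀ b, ψ₃₀.hom (pb f b) = uL b := fun b =>
    DFunLike.congr_fun (congrArg CommRingCat.Hom.hom (hp3.inl_desc _ _ _)) b
  have hr₃ : ∀ b, ψ₃₀.hom (pb r₃ b) = uR b := fun b =>
    DFunLike.congr_fun (congrArg CommRingCat.Hom.hom (hp3.inr_desc _ _ _)) b
  let ψ₃ : Γ₀ W₃ →ₐ[A] B ⊗[A] (B ⊗[A] B) :=
    { ψ₃₀.hom with
      commutes' := fun r => by
        show ψ₃₀.hom (pb (f ≫ p₁ ≫ d) r) = _
        rw [pb_comp, hf₀]
        exact uL.commutes r }
  have hr₁ : ∀ a, ψ₃₀.hom (pb r₁ a) = a ⊗ₜ 1 := fun a => by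
    rw [pb_comp, hf₀]
    show iL (ψ (pb p₁ a)) = _
    simp [iL, hψ₁', Algebra.TensorProduct.one_def]
  have hr₂ : ∀ a, ψ₃₀.hom (pb r₂ a) = 1 ⊗ₜ (a ⊗ₜ 1) := fun a => by
    rw [pb_comp, hf₀]
    show iL (ψ (pb p₂ a)) = _
    simp [iL, hψ₂']
  have h₂₃ : ∀ b, ψ₃₀.hom (pb q₂₃ b) = iR (ψ b) := fun b => DFunLike.congr_fun (ringHom_ext_pullback d d
    (f := ψ₃₀.hom.comp (pb q₂₃)) (f' := iR.toRingHom.comp ψ.toRingHom)
    (fun a => by
      show ψ₃₀.hom (pb q₂₃ (pb p₁ a)) = iR (ψ (pb p₁ a))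
      rw [← pb_comp, h23₁, hr₂, hψ₁']
      rfl)
    (fun a => by
      show ψ₃₀.hom (pb q₂₃ (pb p₂ a)) = iR (ψ (pb p₂ a))
      rw [← pb_comp, h23₂, hr₃, hψ₂']
      rfl)) b
  have h₁₃ : ∀ b, ψ₃₀.hom (pb q₁₃ b) = iM (ψ b) := fun b => DFunLike.congr_fun (ringHom_ext_pullback d d
    (f := ψ₃₀.hom.comp (pb q₁₃)) (f' := iM.toRingHom.comp ψ.toRingHom)
    (fun a => by
      show ψ₃₀.hom (pb q₁₃ (pb p₁ a)) = iM (ψ (pb p₁ a))
      rw [← pb_comp, h13₁, hr₁, hψ₁']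
      simp [iM, Algebra.TensorProduct.one_def])
    (fun a => by
      show ψ₃₀.hom (pb q₁₃ (pb p₂ a)) = iM (ψ (pb p₂ a))
      rw [← pb_comp, h13₂, hr₃, hψ₂']
      simp [iM, uR, iR])) b
  let Q := sectModEt M E
  obtain ⟨z', hz'⟩ := (bc_of_isQuasicoherent M (p₁ ≫ d)).2 z
  let L : ∀ (q : W₃ ⟶ W₂), q ≫ p₁ ≫ d = f ≫ p₁ ≫ d → (Γ₀ W₂ →ₗ[A] Γ₀ W₃) := fun q hq =>
    { toFun := pb q
      map_add' := map_add (pb q)
      map_smul' := fun r b => by
        show pb q (pb (p₁ ≫ d) r * b) = pb (f ≫ p₁ ≫ d) r * pb q b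
        rw [map_mul, ← pb_comp, hq] }
  have hL : ∀ q hq x, θ M (f ≫ p₁ ≫ d) (LinearMap.rTensor Q (L q hq) x) = res M q (θ M (p₁ ≫ d) x) :=
    fun q hq x => by
      induction x using TensorProduct.induction_on with
      | zero => simp
      | tmul b n =>
        show pb q b • res M (f ≫ p₁ ≫ d) n = res M q (b • res M (p₁ ≫ d) n)
        rw [res_smul, ← res_comp, hq]
      | add x y hx hy => simp only [map_add, hx, hy]
  have e23 : q₂₃ ≫ p₁ ≫ d = f ≫ p₁ ≫ d := by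
    rw [← Category.assoc, h23₁, h23, ← h13, Category.assoc]
  have e13 : q₁₃ ≫ p₁ ≫ d = f ≫ p₁ ≫ d := by
    rw [← Category.assoc, h13₁, Category.assoc]
  have hc : LinearMap.rTensor Q (L q₂₃ e23) z' + LinearMap.rTensor Q (L f rfl) z' =
      LinearMap.rTensor Q (L q₁₃ e13) z' := (bc_of_isQuasicoherent M (f ≫ p₁ ≫ d)).1 (by
    rw [map_add, hL q₂₃ e23, hL f rfl, hL q₁₃ e13, hz']
    exact hz W₃ r₁ r₂ r₃ f q₂₃ q₁₃ rfl rfl h23₁ h23₂ h13₁ h13₂)
  have hw : LinearMap.rTensor Q iR.toLinearMap (LinearMap.rTensor Q ψ.toLinearMap z') +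
      LinearMap.rTensor Q iL.toLinearMap (LinearMap.rTensor Q ψ.toLinearMap z') =
      LinearMap.rTensor Q iM.toLinearMap (LinearMap.rTensor Q ψ.toLinearMap z') := by
    have h := congrArg (LinearMap.rTensor Q ψ₃.toLinearMap) hc
    rw [map_add, ← LinearMap.rTensor_comp_apply, ← LinearMap.rTensor_comp_apply,
      ← LinearMap.rTensor_comp_apply] at h
    rw [← LinearMap.rTensor_comp_apply, ← LinearMap.rTensor_comp_apply, ← LinearMap.rTensor_comp_apply]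
    rwa [show ψ₃.toLinearMap ∘ₗ L q₂₃ e23 = iR.toLinearMap ∘ₗ ψ.toLinearMap from LinearMap.ext h₂₃,
      show ψ₃.toLinearMap ∘ₗ L f rfl = iL.toLinearMap ∘ₗ ψ.toLinearMap from LinearMap.ext hf₀,
      show ψ₃.toLinearMap ∘ₗ L q₁₃ e13 = iM.toLinearMap ∘ₗ ψ.toLinearMap from LinearMap.ext h₁₃] at h
  obtain ⟨x, hx⟩ := exists_sub_of_cocycle A B (LinearMap.rTensor Q ψ.toLinearMap z') hw
  refine ⟨θ M d x, ?_⟩
  have hP₁ : ∀ y, θ M (p₁ ≫ d) (LinearMap.rTensor Q P₁.toLinearMap y) = res M p₁ (θ M d y) := fun y => by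
    induction y using TensorProduct.induction_on with
    | zero => simp
    | tmul b n =>
      show pb p₁ b • res M (p₁ ≫ d) n = res M p₁ (b • res M d n)
      rw [res_smul, res_comp]
    | add x y hx hy => simp only [map_add, hx, hy]
  have hP₂ : ∀ y, θ M (p₁ ≫ d) (LinearMap.rTensor Q P₂.toLinearMap y) = res M p₂ (θ M d y) := fun y => by
    induction y using TensorProduct.induction_on with
    | zero => simp
    | tmul b n =>
      show pb p₂ b • res M (p₁ ≫ d) n = res M p₂ (b • res M d n)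
      rw [res_smul, hp, res_comp]
    | add x y hx hy => simp only [map_add, hx, hy]
  have h := congrArg (LinearMap.rTensor Q φ.toLinearMap) hx
  rw [map_sub, ← LinearMap.rTensor_comp_apply, ← LinearMap.rTensor_comp_apply, ← LinearMap.rTensor_comp_apply,
    show φ.toLinearMap ∘ₗ ψ.toLinearMap = LinearMap.id from LinearMap.ext hφψ, LinearMap.rTensor_id_apply,
    show φ.toLinearMap ∘ₗ (Algebra.TensorProduct.includeRight : B →ₐ[A] B ⊗[A] B).toLinearMap = P₂.toLinearMap from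
      LinearMap.ext fun a => by simp [φ],
    show φ.toLinearMap ∘ₗ (Algebra.TensorProduct.includeLeft : B →ₐ[A] B ⊗[A] B).toLinearMap = P₁.toLinearMap from
      LinearMap.ext fun a => by simp [φ]] at h
  rw [← hP₁, ← hP₂, ← map_sub, h]
  exact hz'

variable {C : ShortComplex (ModEt X)}

theorem surjective_sapp (hC : C.ShortExact) [C.X₁.IsQuasicoherent] (E : EtOver X) [IsAffine E.obj.left.left] :
    Function.Surjective (sapp C.g E) := by
  intro t
  haveI := hC.epi_g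
  obtain ⟨R, hR, hrange⟩ := exists_cover_range C.g E t
  obtain ⟨ι, _, V, c, hV, hcR, hc⟩ := exists_finite_cover hR
  haveI := hV
  choose m hm using fun k => hrange (c k) (hcR k)
  let σ := sigmaObj V c
  let d : σ ⟶ E := sigmaDesc V c
  have hd := surjective_sigmaDesc V c hc
  obtain ⟨s, hs⟩ := exists_glue_sigma V c C.X₂ m
  have hgs : sapp C.g σ s = res C.X₃ d t := eq_of_sigma V c C.X₃ fun k => by
    rw [← sapp_res, hs, hm, ← res_comp, sigmaι_desc]
  let W₂ := EtOver.pullbackObj d d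
  let p₁ : W₂ ⟶ σ := EtOver.pullbackFst d d
  let p₂ : W₂ ⟶ σ := EtOver.pullbackSnd d d
  obtain ⟨hi₂, he₂⟩ := exact_sapp hC.exact hC.mono_f W₂
  obtain ⟨z, hz⟩ := (he₂ (res C.X₂ p₂ s - res C.X₂ p₁ s)).1 (by
    rw [map_sub, sapp_res, sapp_res, hgs, res_congr C.X₃ (EtOver.pullback_condition d d) t, sub_self])
  obtain ⟨a, ha⟩ := exists_coboundary C.X₁ d hd z fun T r₁ r₂ r₃ q₁₂ q₂₃ q₁₃ a1 a2 b1 b2 c1 c2 => by
    refine (exact_sapp hC.exact hC.mono_f T).1 ?_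
    rw [map_add, sapp_res, sapp_res, sapp_res, hz, map_sub, map_sub, map_sub, ← res_comp, ← res_comp, ← res_comp,
      ← res_comp, ← res_comp, ← res_comp, a1, a2, b1, b2, c1, c2]
    abel
  let s' := s - sapp C.f σ a
  have heq : res C.X₂ p₁ s' = res C.X₂ p₂ s' := by
    rw [map_sub, map_sub, ← sapp_res, ← sapp_res, sub_eq_sub_iff_add_eq_add]
    have h := congrArg (sapp C.f W₂) ha
    rw [map_sub, hz, sub_eq_sub_iff_add_eq_add] at h
    rw [add_comm]
    exact h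
  have hcd : IsCover (fun _ : PUnit.{u + 1} => d) := fun x =>
    (hd x).elim fun w hw => ⟨PUnit.unit, w, hw⟩
  obtain ⟨r, hr⟩ := exists_glue C.X₂ hcd (fun _ => s') fun _ _ => heq
  refine ⟨r, eq_of_cover C.X₃ hcd fun k => ?_⟩
  rw [← sapp_res, hr k, map_sub, sapp_g_f, sub_zero, hgs]

theorem isQuasicoherent_middle (hC : C.ShortExact) (h₁ : C.X₁.IsQuasicoherent) (h₃ : C.X₃.IsQuasicoherent) :
    C.X₂.IsQuasicoherent := by
  haveI := h₁
  haveI := h₃
  refine isQuasicoherent_of_bc_affine _ fun E E' _ _ g => ?_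
  letI := (pb g).toAlgebra
  haveI : Module.Flat (Γ₀ E) (Γ₀ E') := flat_pb g
  obtain ⟨hi, he⟩ := exact_sapp hC.exact hC.mono_f E
  obtain ⟨hi', he'⟩ := exact_sapp hC.exact hC.mono_f E'
  have hs := surjective_sapp hC E
  have b₁ := bc_of_isQuasicoherent C.X₁ g
  have b₃ := bc_of_isQuasicoherent C.X₃ g
  refine ⟨(injective_iff_map_eq_zero _).2 fun x hx => ?_, fun y => ?_⟩
  · have hx' : LinearMap.lTensor (Γ₀ E') (sapp C.g E) x = 0 :=
      b₃.1 (by rw [← θ_sapp, hx, map_zero, map_zero])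
    obtain ⟨z, rfl⟩ := (Module.Flat.lTensor_exact (Γ₀ E') he x).1 hx'
    have : z = 0 := b₁.1 (hi' (by rw [θ_sapp, hx, map_zero, map_zero]))
    rw [this, map_zero]
  · obtain ⟨x, hx⟩ := b₃.2 (sapp C.g E' y)
    obtain ⟨w, rfl⟩ := LinearMap.lTensor_surjective (Γ₀ E') hs x
    obtain ⟨z, hz⟩ := (he' (y - θ C.X₂ g w)).1 (by rw [map_sub, θ_sapp, hx, sub_self])
    obtain ⟨z', rfl⟩ := b₁.2 z
    exact ⟨w + LinearMap.lTensor (Γ₀ E') (sapp C.f E) z', by rw [map_add, ← θ_sapp, hz, add_sub_cancel]⟩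

end Groth.L09.ModEt
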