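import Mathlib.RingTheory.Unramified.LocalStructure
import Mathlib.RingTheory.Etale.StandardEtale
import Mathlib.RingTheory.Localization.BaseChange
import Mathlib.RingTheory.Flat.Basic
import Mathlib.RingTheory.Ideal.GoingUp
import Mathlib.LinearAlgebra.DirectSum.Finsupp
import Mathlib.LinearAlgebra.TensorProduct.RightExactness
import Mathlib.RingTheory.Ideal.MinimalPrime.Localization
import Mathlib.RingTheory.QuasiFinite.Basic

/-!
# Weakly associated primes along etale ring maps
-/

universe u v

open TensorProduct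

set_option autoImplicit false
set_option linter.style.haveILetI false

noncomputable section

namespace Groth.L09.WA

variable {A : Type u} [CommRing A] {N : Type v} [AddCommGroup N] [Module A N]

/-- The annihilator of an element. -/
abbrev ann (A : Type u) [CommRing A] {N : Type v} [AddCommGroup N] [Module A N] (n : N) : Ideal A :=
  LinearMap.ker (LinearMap.toSpanSingleton A N n)

theorem mem_ann {n : N} {a : A} : a ∈ ann A n ↔ a • n = 0 := Iff.rfl

/-- Weakly associated primes. -/
def IsWA (A : Type u) [CommRing A] (N : Type v) [AddCommGroup N] [Module A N] (p : Ideal A) : Prop :=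
  ∃ n : N, p ∈ (ann A n).minimalPrimes

theorem isWA_of_equiv {N' : Type*} [AddCommGroup N'] [Module A N'] (e : N ≃ₗ[A] N') {p : Ideal A}
    (h : IsWA A N p) : IsWA A N' p := by
  obtain ⟨n, hn⟩ := h
  refine ⟨e n, ?_⟩
  rwa [show ann A (e n) = ann A n from Ideal.ext fun a => by
    rw [mem_ann, mem_ann, ← map_smul, e.map_eq_zero_iff]]

theorem isWA_iff_of_equiv {N' : Type*} [AddCommGroup N'] [Module A N'] (e : N ≃ₗ[A] N') {p : Ideal A} :
    IsWA A N p ↔ IsWA A N' p :=
  ⟨isWA_of_equiv e, isWA_of_equiv e.symm⟩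

variable {B : Type u} [CommRing B] [Algebra A B]

/-- Weakly associated primes go up along flat maps with discrete fibres. -/
theorem isWA_tensor [Module.Flat A B] {q : Ideal B} [q.IsPrime]
    (hinc : ∀ Q : Ideal B, Q.IsPrime → Q ≤ q → Q.under A = q.under A → Q = q)
    (h : IsWA A N (q.under A)) : IsWA B (B ⊗[A] N) q := by
  obtain ⟨n, hn⟩ := h
  have hex : Function.Exact (LinearMap.lTensor B (ann A n).subtype)
      (LinearMap.lTensor B (LinearMap.toSpanSingleton A N n)) :=
    Module.Flat.lTensor_exact B (LinearMap.exact_subtype_ker_map _)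
  refine ⟨(1 : B) ⊗ₜ n, ⟨‹_›, fun b hb => ?_⟩, fun Q hQ hQq => ?_⟩
  · have hb' : LinearMap.lTensor B (LinearMap.toSpanSingleton A N n) (b ⊗ₜ (1 : A)) = 0 := by
      rw [LinearMap.lTensor_tmul, LinearMap.toSpanSingleton_apply, one_smul]
      rw [mem_ann, TensorProduct.smul_tmul', smul_eq_mul, mul_one] at hb
      exact hb
    obtain ⟨z, hz⟩ := (hex _).1 hb'
    have key : ∀ z : B ⊗[A] ann A n,
        TensorProduct.rid A B (LinearMap.lTensor B (ann A n).subtype z) ∈ q := fun z => by
      induction z using TensorProduct.induction_on with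
      | zero => simp
      | tmul c a =>
        rw [LinearMap.lTensor_tmul, TensorProduct.rid_tmul, Algebra.smul_def]
        exact q.mul_mem_right _ (hn.1.2 a.2)
      | add x y hx hy => rw [map_add, map_add]; exact q.add_mem hx hy
    simpa [hz] using key z
  · haveI := hQ.1
    have hle : ann A n ≤ Q.under A := fun a ha => by
      refine hQ.2 ?_
      show algebraMap A B a • ((1 : B) ⊗ₜ[A] n) = 0
      rw [algebraMap_smul, ← TensorProduct.tmul_smul, mem_ann.1 ha, TensorProduct.tmul_zero]
    exact (hinc Q hQ.1 hQq (le_antisymm (Ideal.comap_mono hQq)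
      (hn.2 ⟨inferInstance, hle⟩ (Ideal.comap_mono hQq)))).ge

/-- Weakly associated primes of a free finite extension come from below. -/
theorem isWA_of_free {C : Type u} [CommRing C] [Algebra A C] [Module.Finite A C] [Module.Free A C] {q : Ideal C}
    [q.IsPrime] (h : IsWA C (C ⊗[A] N) q) : IsWA A N (q.under A) := by
  classical
  obtain ⟨c, hc⟩ := h
  let p := q.under A
  have hfin : {Q : Ideal C | Q.IsPrime ∧ Q.under A = p}.Finite := by
    haveI : Algebra.QuasiFinite A C := inferInstance
    refine ((Algebra.QuasiFinite.finite_comap_preimage_singleton (R := A) (S := C) ⟨p, inferInstance⟩).image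
      (fun x => x.asIdeal)).subset fun Q hQ => ?_
    exact ⟨⟨Q, hQ.1⟩, PrimeSpectrum.ext hQ.2, rfl⟩
  -- kill the other maximal primes above `p`
  have hkill : ∀ Q : Ideal C, Q.IsPrime ∧ Q.under A = p → Q ≠ q → ∃ h ∉ q, ∃ s ∉ Q, s • h • c = 0 := by
    rintro Q ⟨hQ, hQp⟩ hne
    by_contra hcon
    push Not at hcon
    -- every `h` killed after localising at `Q` lies in `q`
    let I : Ideal C := RingHom.ker
      ((algebraMap (C ⧸ ann C c) (Localization (Algebra.algebraMapSubmonoid (C ⧸ ann C c) Q.primeCompl))).comp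
        (Ideal.Quotient.mk (ann C c)))
    have hI : ∀ h, h ∈ I ↔ ∃ s ∉ Q, s * h ∈ ann C c := fun h => by
      rw [RingHom.mem_ker, RingHom.comp_apply, IsLocalization.map_eq_zero_iff (Algebra.algebraMapSubmonoid (C ⧸ ann C c) Q.primeCompl)]
      constructor
      · rintro ⟨⟨_, s, hs, rfl⟩, h'⟩
        exact ⟨s, hs, Ideal.Quotient.eq_zero_iff_mem.1 (by rw [map_mul]; exact h')⟩
      · rintro ⟨s, hs, h'⟩
        exact ⟨⟨_, s, hs, rfl⟩, by
          show Ideal.Quotient.mk _ s * _ = 0
          rw [← map_mul, Ideal.Quotient.eq_zero_iff_mem.2 h']⟩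
    have hIq : I ≤ q := fun h hh => by
      obtain ⟨s, hs, h'⟩ := (hI h).1 hh
      by_contra hhq
      exact hcon h hhq s hs (by rw [smul_smul]; exact h')
    obtain ⟨P, hP, hPq⟩ := Ideal.exists_minimalPrimes_le hIq
    haveI := hP.1.1
    have hPq' : P = q := le_antisymm hPq (hc.2 ⟨inferInstance, fun a ha =>
      hP.1.2 ((hI a).2 ⟨1, fun h1 => hQ.ne_top (Q.eq_top_iff_one.2 h1), by rw [one_mul]; exact ha⟩)⟩ hPq)
    obtain ⟨P', hP', -, hPP'⟩ := Ideal.exists_comap_eq_of_mem_minimalPrimes
      ((algebraMap (C ⧸ ann C c) (Localization (Algebra.algebraMapSubmonoid (C ⧸ ann C c) Q.primeCompl))).comp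
        (Ideal.Quotient.mk (ann C c))) (I := ⊥) P (by rw [← RingHom.ker_eq_comap_bot]; exact hP)
    -- `q` meets no denominator
    have hqQ : q ≤ Q := fun x hx => by
      by_contra hxQ
      rw [← hPq', ← hPP'] at hx
      have hu : algebraMap (C ⧸ ann C c) (C ⧸ ann C c) (Ideal.Quotient.mk (ann C c) x) ∈
          Algebra.algebraMapSubmonoid (C ⧸ ann C c) Q.primeCompl := ⟨x, hxQ, rfl⟩
      exact hP'.ne_top (Ideal.eq_top_of_isUnit_mem _ hx (IsLocalization.map_units
        (Localization (Algebra.algebraMapSubmonoid (C ⧸ ann C c) Q.primeCompl)) ⟨_, hu⟩))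
    haveI : Algebra.IsIntegral A C := inferInstance
    exact hne (Algebra.QuasiFinite.eq_of_le_of_under_eq q Q hqQ hQp.symm).symm
  choose! h hh s hs hsc using hkill
  let H : C := ∏ Q ∈ hfin.toFinset.erase q, h Q
  have hH : H ∉ q := fun hH => by
    obtain ⟨Q, hQ, h'⟩ := (Ideal.IsPrime.prod_mem_iff).1 hH
    rw [Finset.mem_erase, Set.Finite.mem_toFinset] at hQ
    exact hh Q hQ.2 hQ.1 h'
  let c' := H • c
  have hann : ∀ Q : Ideal C, Q.IsPrime → Q.under A = p → ann C c' ≤ Q → Q = q := fun Q hQ hQp hle => by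
    by_contra hne
    obtain ⟨r, hr⟩ : h Q ∣ H := Finset.dvd_prod_of_mem _ (Finset.mem_erase.2 ⟨hne, hfin.mem_toFinset.2 ⟨hQ, hQp⟩⟩)
    refine hs Q ⟨hQ, hQp⟩ hne (hle ?_)
    show s Q • H • c = 0
    rw [hr, mul_comm, ← smul_smul r, smul_comm, hsc Q ⟨hQ, hQp⟩ hne, smul_zero]
  have hc' : ann C c' ≤ q := fun a ha => by
    refine (hc.1.1.mem_or_mem (hc.1.2 ?_)).resolve_right hH
    show (a * H) • c = 0
    rw [mul_smul]; exact ha
  have hmin : p ∈ ((ann C c').under A).minimalPrimes := by
    refine ⟨⟨inferInstance, Ideal.comap_mono hc'⟩, fun P hP hPp => ?_⟩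
    haveI := hP.1
    haveI : Algebra.IsIntegral A C := inferInstance
    obtain ⟨Q, hQle, hQ, hQP⟩ := Ideal.exists_ideal_over_prime_of_isIntegral P (ann C c') hP.2
    obtain ⟨Q', hQQ', hQ', hQ'p⟩ := Ideal.exists_ideal_over_prime_of_isIntegral p Q (hQP.le.trans hPp)
    have : Q' = q := hann Q' hQ' hQ'p (hQle.trans hQQ')
    subst this
    have hle : ann C c ≤ Q := fun a ha => hQle (by
      show a • H • c = 0
      rw [smul_comm, mem_ann.1 ha, smul_zero])
    rw [le_antisymm hQQ' (hc.2 ⟨hQ, hle⟩ hQQ')] at hQP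
    exact hQP.le
  let b := Module.Free.chooseBasis A C
  haveI : Fintype (Module.Free.ChooseBasisIndex A C) := Fintype.ofFinite _
  let e : C ⊗[A] N ≃ₗ[A] (Module.Free.ChooseBasisIndex A C →₀ N) :=
    (TensorProduct.congr b.repr (LinearEquiv.refl A N)) ≪≫ₗ TensorProduct.finsuppScalarLeft A N _
  have hJ : (ann C c').under A = Finset.univ.inf fun i => ann A (e c' i) := by
    ext a
    simp only [Ideal.mem_comap, Submodule.mem_finsetInf, Finset.mem_univ, true_implies]
    show algebraMap A C a • c' = 0 ↔ _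
    rw [algebraMap_smul, ← e.map_eq_zero_iff, map_smul, Finsupp.ext_iff]
    rfl
  rw [hJ] at hmin
  obtain ⟨i, -, hi⟩ := (Ideal.IsPrime.inf_le' hmin.1.1).1 hmin.1.2
  exact ⟨e c' i, ⟨hmin.1.1, hi⟩, fun P hP hPp => hmin.2 ⟨hP.1, (Finset.inf_le (Finset.mem_univ i)).trans hP.2⟩ hPp⟩

/-- Weakly associated primes of a localised module come from the module. -/
theorem isWA_of_localization {C : Type u} [CommRing C] (g : C) [Algebra C B] [IsLocalization.Away g B]
    {M : Type v} [AddCommGroup M] [Module C M] {q : Ideal B} [q.IsPrime] (h : IsWA B (B ⊗[C] M) q) :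
    IsWA C M (q.under C) := by
  obtain ⟨t, ht⟩ := h
  haveI := IsLocalization.tensorProduct_isLocalizedModule (R := C) (Submonoid.powers g) B (M := M)
  obtain ⟨⟨m, s⟩, hms⟩ := IsLocalizedModule.surj (Submonoid.powers g) (TensorProduct.mk C B M 1) t
  have hms' : algebraMap C B s.1 • t = (1 : B) ⊗ₜ m := by rw [algebraMap_smul]; exact hms
  refine ⟨m, ⟨inferInstance, fun a ha => ?_⟩, fun P hP hPq => ?_⟩
  · refine (ht.1.1.mem_or_mem (ht.1.2 (?_ : (algebraMap C B a * algebraMap C B s.1) • t = 0))).resolve_right fun h' =>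
      ht.1.1.ne_top (Ideal.eq_top_of_isUnit_mem _ h' (IsLocalization.map_units B s))
    rw [mul_smul, hms', algebraMap_smul, ← TensorProduct.tmul_smul, mem_ann.1 ha, TensorProduct.tmul_zero]
  · haveI := hP.1
    have hd : Disjoint (Submonoid.powers g : Set C) P := Set.disjoint_left.2 fun x hx hxP =>
      ht.1.1.ne_top (Ideal.eq_top_of_isUnit_mem _ (hPq hxP : algebraMap C B x ∈ q) (IsLocalization.map_units B ⟨x, hx⟩))
    have hP' := IsLocalization.isPrime_of_isPrime_disjoint (Submonoid.powers g) B P inferInstance hd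
    have hPP : (P.map (algebraMap C B)).under C = P :=
      IsLocalization.under_map_of_isPrime_disjoint (Submonoid.powers g) B inferInstance hd
    have hle : ann B t ≤ P.map (algebraMap C B) := fun x hx => by
      obtain ⟨⟨a, s'⟩, hxa⟩ := IsLocalization.surj (Submonoid.powers g) x
      have h0 : TensorProduct.mk C B M 1 (a • m) = TensorProduct.mk C B M 1 0 := by
        show (1 : B) ⊗ₜ[C] (a • m) = (1 : B) ⊗ₜ[C] 0
        rw [TensorProduct.tmul_zero, TensorProduct.tmul_smul, ← hms', ← algebraMap_smul B a, smul_smul, ← hxa,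
          mul_assoc, mul_comm, ← smul_smul, mem_ann.1 hx, smul_zero]
      obtain ⟨c, hc⟩ := IsLocalizedModule.exists_of_eq (S := Submonoid.powers g) h0
      have : (c.1 * a) ∈ P := hP.2 (by
        show (c.1 * a) • m = 0
        rw [mul_smul]
        exact hc.trans (smul_zero _))
      have ha : algebraMap C B a ∈ P.map (algebraMap C B) :=
        Ideal.mem_map_of_mem _ ((hP.1.mem_or_mem this).resolve_left (Set.disjoint_left.1 hd c.2))
      rw [← hxa] at ha
      exact (hP'.mem_or_mem ha).resolve_right fun h' =>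
        hP'.ne_top (Ideal.eq_top_of_isUnit_mem _ h' (IsLocalization.map_units B s'))
    have := ht.2 ⟨hP', hle⟩ (Ideal.map_le_iff_le_comap.2 hPq)
    exact (Ideal.comap_mono this).trans hPP.le

/-- Weakly associated primes along an etale ring map. -/
theorem isWA_iff [Algebra.Etale A B] {q : Ideal B} [q.IsPrime] :
    IsWA B (B ⊗[A] N) q ↔ IsWA A N (q.under A) := by
  refine ⟨fun h => ?_, fun h => isWA_tensor (fun Q hQ hQq e => ?_) h⟩
  · obtain ⟨f, hf, hstd⟩ := Algebra.IsEtaleAt.exists_isStandardEtale (R := A) q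
    have hd : Disjoint (Submonoid.powers f : Set B) q := Set.disjoint_left.2 fun x hx hxq => by
      obtain ⟨n, rfl⟩ := hx
      exact hf (Ideal.IsPrime.mem_of_pow_mem ‹_› n hxq)
    let B' := Localization.Away f
    let q' := q.map (algebraMap B B')
    haveI hq' : q'.IsPrime := IsLocalization.isPrime_of_isPrime_disjoint (Submonoid.powers f) B' q inferInstance hd
    have hqq : q'.under B = q := IsLocalization.under_map_of_isPrime_disjoint (Submonoid.powers f) B' inferInstance hd
    have hqA : q.under A = q'.under A := by rw [← Ideal.under_under (B := B) (A := A) q', hqq]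
    haveI : Module.Flat B B' := IsLocalization.flat B' (Submonoid.powers f)
    have h₁ : IsWA B' (B' ⊗[B] (B ⊗[A] N)) q' := isWA_tensor (q := q') (fun Q hQ _ e => by
      haveI := hQ
      rw [← IsLocalization.map_under (Submonoid.powers f) B' Q, ← IsLocalization.map_under (Submonoid.powers f) B' q']
      exact congrArg (Ideal.map _) e) (by rw [hqq]; exact h)
    have h₂ : IsWA B' (B' ⊗[A] N) q' := isWA_of_equiv (AlgebraTensorModule.cancelBaseChange A B B' B' N) h₁
    obtain ⟨P⟩ := Algebra.IsStandardEtale.nonempty_standardEtalePresentation (R := A) (S := B')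
    let C := AdjoinRoot P.P.f
    let e : Localization.Away (AdjoinRoot.mk P.P.f P.P.g) ≃ₐ[A] B' :=
      P.P.equivAwayAdjoinRoot.symm.trans (P.equivRing).symm
    let φ : C →ₐ[A] B' := e.toAlgHom.comp (IsScalarTower.toAlgHom A C _)
    letI := φ.toRingHom.toAlgebra
    haveI : IsScalarTower A C B' := IsScalarTower.of_algebraMap_eq fun a => (φ.commutes a).symm
    haveI : IsLocalization.Away (AdjoinRoot.mk P.P.f P.P.g) B' :=
      IsLocalization.isLocalization_of_algEquiv _
        ({ e with commutes' := fun c => rfl } : Localization.Away (AdjoinRoot.mk P.P.f P.P.g) ≃ₐ[C] B')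
    haveI : Module.Finite A C := P.P.monic_f.finite_adjoinRoot
    haveI : Module.Free A C := P.P.monic_f.free_adjoinRoot
    have h₃ : IsWA B' (B' ⊗[C] (C ⊗[A] N)) q' :=
      isWA_of_equiv (AlgebraTensorModule.cancelBaseChange A C B' B' N).symm h₂
    have h₄ := isWA_of_free (isWA_of_localization (AdjoinRoot.mk P.P.f P.P.g) h₃)
    rw [hqA, ← Ideal.under_under (B := C) (A := A) q']
    exact h₄
  · haveI := hQ
    exact Algebra.QuasiFinite.eq_of_le_of_under_eq Q q hQq e

end Groth.L09.WA
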