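import Groth.Agent.L09.ModEt.Main
import Groth.Agent.L09.ModEt.WeakAssAlg
import Groth.Agent.L23.Points
import Mathlib.AlgebraicGeometry.Morphisms.Etale

/-!
# Weakly associated points of quasi-coherent modules on the small etale site
-/

universe u

open CategoryTheory CategoryTheory.Limits AlgebraicGeometry Opposite AlgSp TensorProduct

set_option autoImplicit false
set_option linter.style.haveILetI false
set_option backward.isDefEq.respectTransparency false
set_option backward.isDefEq.respectTransparency.types false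

noncomputable section

namespace Groth.L09.ModEt

open Groth.L09.WA

variable {S : Scheme.{u}} {X : Sp S} (M : ModEt X)

theorem primeAtPt_eq (U : Scheme.{u}) (u : U) : primeAtPt U u = (U.toSpecΓ u).asIdeal := rfl

theorem comap_primeAtPt {U V : Scheme.{u}} (f : U ⟶ V) (u : U) :
    (primeAtPt U u).comap f.appTop.hom = primeAtPt V (f u) := by
  rw [primeAtPt_eq, primeAtPt_eq]
  exact congrArg (fun h : U ⟶ Spec Γ(V, ⊤) => (h u).asIdeal) (Scheme.toSpecΓ_naturality f).symm

theorem exists_primeAtPt (U : Scheme.{u}) [IsAffine U] (p : Ideal Γ(U, ⊤)) [p.IsPrime] :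
    ∃ u : U, primeAtPt U u = p := by
  obtain ⟨u, hu⟩ : ∃ u, U.toSpecΓ u = (⟨p, inferInstance⟩ : PrimeSpectrum Γ(U, ⊤)) :=
    ⟨(inv U.toSpecΓ) (⟨p, inferInstance⟩ : PrimeSpectrum Γ(U, ⊤)), by
      rw [← Scheme.Hom.comp_apply, IsIso.inv_hom_id]; rfl⟩
  exact ⟨u, by rw [primeAtPt_eq, hu]⟩

theorem isWeakAssOn_iff_isWA (E : EtOver X) [IsAffine E.obj.left.left] (u : E.obj.left.left) :
    IsWeakAssOn M E u ↔ IsWA (Γ₀ E) (sectModEt M E) (primeAtPt E.obj.left.left u) := Iff.rfl

theorem etale_pb {E E' : EtOver X} (g : E' ⟶ E) [IsAffine E.obj.left.left] [IsAffine E'.obj.left.left] :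
    (pb g).Etale := by
  haveI := EtOver.etale_left g
  exact (HasRingHomProperty.iff_of_isAffine (P := @Etale)).1 (inferInstance : Etale g.hom.left.left)

/-- Sections over an affine object as a base change. -/
def bcEquiv {E E' : EtOver X} (g : E' ⟶ E) (h : BC M g) :
    letI := (pb g).toAlgebra
    Γ₀ E' ⊗[Γ₀ E] sectModEt M E ≃ₗ[Γ₀ E'] sectModEt M E' :=
  letI := (pb g).toAlgebra
  LinearEquiv.ofBijective
    { toFun := θ M g
      map_add' := map_add _
      map_smul' := fun r x => by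
        induction x using TensorProduct.induction_on with
        | zero => simp
        | tmul b m =>
          rw [TensorProduct.smul_tmul']
          show (r * b) • res M g m = r • (b • res M g m)
          rw [mul_smul]
        | add x y hx hy => simp only [smul_add, map_add, hx, hy, RingHom.id_apply] } h

theorem isWeakAssOn_map_iff [M.IsQuasicoherent] {E E' : EtOver X} [IsAffine E.obj.left.left]
    [IsAffine E'.obj.left.left] (g : E' ⟶ E) (u : E'.obj.left.left) :
    IsWeakAssOn M E' u ↔ IsWeakAssOn M E (g.hom.left.left u) := by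
  letI := (pb g).toAlgebra
  haveI : Algebra.Etale (Γ₀ E) (Γ₀ E') := RingHom.etale_algebraMap.1 (etale_pb g)
  rw [isWeakAssOn_iff_isWA, isWeakAssOn_iff_isWA, ← comap_primeAtPt g.hom.left.left u,
    ← isWA_iff_of_equiv (bcEquiv M g (bc_of_isQuasicoherent M g))]
  exact WA.isWA_iff

theorem exists_common {E₁ E₂ : EtOver X} (u₁ : E₁.obj.left.left) (u₂ : E₂.obj.left.left)
    (h : Points.ofPt E₁.obj.hom u₁ = Points.ofPt E₂.obj.hom u₂) :
    ∃ (W : EtOver X) (_ : IsAffine W.obj.left.left) (g₁ : W ⟶ E₁) (g₂ : W ⟶ E₂) (w : W.obj.left.left),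
      g₁.hom.left.left w = u₁ ∧ g₂.hom.left.left w = u₂ := by
  obtain ⟨v, hv₁, hv₂⟩ := Groth.L23.exists_point_of_isPullback (E₂.property.1.isPullback E₁.obj.hom)
    (x := Points.ofScheme E₂.obj.left u₂) (u := u₁) ((Points.ofPt_eq_map_ofScheme _ _).symm.trans h.symm)
  obtain ⟨k, hk⟩ := (yon S).map_surjective (E₂.property.1.fst E₁.obj.hom)
  rw [← hk, Groth.L23.ofPt_map] at hv₁
  obtain ⟨_, ⟨(B : (EtOver.prodObj E₁ E₂).obj.left.left.Opens), hB, rfl⟩, hvB, -⟩ :=
    (EtOver.prodObj E₁ E₂).obj.left.left.isBasis_affineOpens.exists_subset_of_mem_open (Set.mem_univ v) isOpen_univ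
  refine ⟨openObj _ B, hB, openι _ B ≫ EtOver.prodFst E₁ E₂, openι _ B ≫ EtOver.prodSnd E₁ E₂, ⟨v, hvB⟩, hv₂, ?_⟩
  refine (Eq.trans ?_ ((Points.schemeEquiv E₂.obj.left).injective hv₁) :)
  show (E₂.property.1.fst' E₁.obj.hom).left v = k.left v
  rw [(yon S).map_injective ((Functor.relativelyRepresentable.map_fst' _ _).trans hk.symm)]

theorem isWeakAssOn_congr [M.IsQuasicoherent] {E₁ E₂ : EtOver X} [IsAffine E₁.obj.left.left]
    [IsAffine E₂.obj.left.left] (u₁ : E₁.obj.left.left) (u₂ : E₂.obj.left.left)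
    (h : Points.ofPt E₁.obj.hom u₁ = Points.ofPt E₂.obj.hom u₂) : IsWeakAssOn M E₁ u₁ ↔ IsWeakAssOn M E₂ u₂ := by
  obtain ⟨W, hW, g₁, g₂, w, rfl, rfl⟩ := exists_common u₁ u₂ h
  haveI := hW
  rw [← isWeakAssOn_map_iff M g₁, ← isWeakAssOn_map_iff M g₂]

theorem exists_affine_chart (hX : IsAlgSpace X) (x : Points X) :
    ∃ (E : EtOver X) (_ : IsAffine E.obj.left.left) (u : E.obj.left.left), Points.ofPt E.obj.hom u = x := by
  obtain ⟨U, p, hp, hps⟩ := hX.atlas
  obtain ⟨u, rfl⟩ := Groth.L23.surjective_ofPt hps x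
  obtain ⟨_, ⟨(B : U.left.Opens), hB, rfl⟩, hxB, -⟩ :=
    U.left.isBasis_affineOpens.exists_subset_of_mem_open (Set.mem_univ u) isOpen_univ
  exact ⟨openObj (EtOver.mk p hp) B, hB, ⟨u, hxB⟩, Groth.L23.ofPt_comp _ _ _⟩

theorem mem_weakAssEt_iff [M.IsQuasicoherent] (hX : IsAlgSpace X) (x : Points X) :
    x ∈ WeakAssEt M ↔ ∀ (E : EtOver X) [IsAffine E.obj.left.left] (u : ↥E.obj.left.left),
      Points.ofPt E.obj.hom u = x → IsWeakAssOn M E u := by
  constructor
  · rintro ⟨E₀, hE₀, u₀, rfl, h⟩ E _ u hu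
    exact (isWeakAssOn_congr M u u₀ hu).2 h
  · intro h
    obtain ⟨E, hE, u, hu⟩ := exists_affine_chart hX x
    exact ⟨E, hE, u, hu, h E u hu⟩

theorem exists_isWeakAssOn_of_ne_zero {E : EtOver X} [IsAffine E.obj.left.left] {m : sectModEt M E} (hm : m ≠ 0) :
    ∃ u, IsWeakAssOn M E u ∧ annSect m ≤ primeAtPt E.obj.left.left u := by
  have hne : annSect m ≠ ⊤ := fun h => hm (by
    have : (1 : Γ₀ E) ∈ annSect m := h ▸ Submodule.mem_top
    rwa [mem_annSect_iff, map_one, one_smul] at this)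
  obtain ⟨P, hP, hmP⟩ := Ideal.exists_le_maximal _ hne
  haveI := hP.isPrime
  obtain ⟨p, hp, -⟩ := Ideal.exists_minimalPrimes_le hmP
  haveI := hp.1.1
  obtain ⟨u, hu⟩ := exists_primeAtPt E.obj.left.left p
  exact ⟨u, ⟨m, hu ▸ hp⟩, hu ▸ hp.1.2⟩

theorem res_eq_zero_of_affine (E : EtOver X) {m : sectModEt M E}
    (h : ∀ (V : EtOver X) (g : V ⟶ E), IsAffine V.obj.left.left → res M g m = 0) : m = 0 :=
  eq_of_cover M (V := fun B : E.obj.left.left.affineOpens => openObj E B.1) (c := fun B => openι E B.1)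
    (fun x => by
      obtain ⟨_, ⟨(B : E.obj.left.left.Opens), hB, rfl⟩, hxB, -⟩ :=
        E.obj.left.left.isBasis_affineOpens.exists_subset_of_mem_open (Set.mem_univ x) isOpen_univ
      exact ⟨⟨B, hB⟩, ⟨x, hxB⟩, rfl⟩)
    fun B => by rw [map_zero]; exact h _ _ B.2

theorem isZero_iff : IsZero M ↔ WeakAssEt M = ∅ := by
  constructor
  · intro h
    refine Set.eq_empty_iff_forall_notMem.2 fun x hx => ?_
    obtain ⟨E, hE, u, -, s, hs⟩ := hx
    have h0 : (𝟙 M : M ⟶ M) = 0 := h.eq_of_src _ _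
    have hs0 : s = 0 := ConcreteCategory.congr_hom (congrArg (fun φ : M ⟶ M => φ.val.app (op E)) h0) s
    subst hs0
    exact hs.1.1.ne_top (top_le_iff.1 fun a _ => hs.1.2 ((mem_annSect_iff _ a).2 (smul_zero _)))
  · intro h
    have hsec : ∀ (E : EtOver X) (m : sectModEt M E), m = 0 := fun E m =>
      res_eq_zero_of_affine M E fun V g hV => by
        by_contra hne
        haveI := hV
        obtain ⟨u, hu, -⟩ := exists_isWeakAssOn_of_ne_zero M hne
        exact (Set.eq_empty_iff_forall_notMem.1 h _) ⟨V, hV, u, rfl, hu⟩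
    rw [IsZero.iff_id_eq_zero]
    ext E m
    exact hsec E.unop m

end Groth.L09.ModEt
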