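import Groth.Agent.L09.ModEt.Exact
import Groth.Agent.L23.Univ

/-!
# Direct images of quasi-coherent modules along quasi-compact quasi-separated morphisms
-/

universe u

open CategoryTheory CategoryTheory.Limits AlgebraicGeometry Opposite AlgSp TensorProduct

set_option autoImplicit false
set_option linter.style.haveILetI false
set_option backward.isDefEq.respectTransparency false
set_option backward.isDefEq.respectTransparency.types false

noncomputable section

namespace Groth.L09.ModEt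

variable {S : Scheme.{u}} {X Y : Sp S} {f : X ⟶ Y} (hf : Representable f) (M : ModEt X)
  {E E' : EtOver Y} (g : E' ⟶ E)

/-- Functions downstairs, on an object over a base change. -/
abbrev ρc {V : EtOver X} (c : V ⟶ EtOver.bcObj hf E) : Γ₀ E →+* Γ₀ V := (pb c).comp (Groth.L09.Pull.π₀ hf E)

/-- Sections over an object over a base change as a module downstairs. -/
@[reducible] def secPush {V : EtOver X} (c : V ⟶ EtOver.bcObj hf E) : Module (Γ₀ E) (sectModEt M V) :=
  Module.compHom _ (ρc hf c)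

/-- The pullback of an object over a base change to a further base change. -/
abbrev bcPb {V : EtOver X} (c : V ⟶ EtOver.bcObj hf E) : EtOver X := EtOver.pullbackObj (EtOver.bcMap hf g) c

theorem isPullback_bcPb {V : EtOver X} (c : V ⟶ EtOver.bcObj hf E) :
    IsPullback ((EtOver.pullbackFst (EtOver.bcMap hf g) c).hom.left.left ≫ (EtOver.bcπ hf E').left)
      (EtOver.pullbackSnd (EtOver.bcMap hf g) c).hom.left.left g.hom.left.left
      (c.hom.left.left ≫ (EtOver.bcπ hf E).left) :=
  (((EtOver.isPullback (EtOver.bcMap hf g) c).map (EtOver.toScheme X)).paste_horiz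
    (EtOver.isPullback_bcMap_left hf g).flip)

theorem isAffine_bcPb [IsAffine E.obj.left.left] [IsAffine E'.obj.left.left] {V : EtOver X}
    [IsAffine V.obj.left.left] (c : V ⟶ EtOver.bcObj hf E) : IsAffine (bcPb hf g c).obj.left.left :=
  IsAffine.of_isIso (isPullback_bcPb hf g c).isoPullback.hom

/-- Functions downstairs on the further base change. -/
abbrev ρ' {V : EtOver X} (c : V ⟶ EtOver.bcObj hf E) : Γ₀ E' →+* Γ₀ (bcPb hf g c) :=
  (pb (EtOver.pullbackFst (EtOver.bcMap hf g) c)).comp (Groth.L09.Pull.π₀ hf E')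

theorem ρ'_pb {V : EtOver X} (c : V ⟶ EtOver.bcObj hf E) (a : Γ₀ E) :
    ρ' hf g c (pb g a) = pb (EtOver.pullbackSnd (EtOver.bcMap hf g) c) (ρc hf c a) := by
  show pb _ (Groth.L09.Pull.π₀ hf E' (pb g a)) = pb _ (pb c (Groth.L09.Pull.π₀ hf E a))
  rw [← Groth.L09.Pull.π₀_nat, ← pb_comp, ← pb_comp, EtOver.pullback_condition]

/-- Sections over an object over a base change, extended along the base. -/
def θp {V : EtOver X} (c : V ⟶ EtOver.bcObj hf E) :
    letI := (pb g).toAlgebra
    letI := secPush hf M c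
    Γ₀ E' ⊗[Γ₀ E] sectModEt M V →+ sectModEt M (bcPb hf g c) :=
  letI := (pb g).toAlgebra
  letI := secPush hf M c
  TensorProduct.liftAddHom
    (AddMonoidHom.mk' (fun b => (DistribSMul.toAddMonoidHom (sectModEt M (bcPb hf g c)) (ρ' hf g c b)).comp
        (res M (EtOver.pullbackSnd (EtOver.bcMap hf g) c)))
      fun b b' => AddMonoidHom.ext fun m => by simp [map_add, add_smul])
    fun a b m => by
      show ρ' hf g c (pb g a * b) • res M (EtOver.pullbackSnd (EtOver.bcMap hf g) c) m =
        ρ' hf g c b • res M (EtOver.pullbackSnd (EtOver.bcMap hf g) c) (ρc hf c a • m)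
      rw [res_smul, smul_smul, map_mul, mul_comm, ρ'_pb]

theorem bijective_θp [IsAffine E.obj.left.left] [IsAffine E'.obj.left.left] {V : EtOver X}
    [IsAffine V.obj.left.left] [M.IsQuasicoherent] (c : V ⟶ EtOver.bcObj hf E) :
    Function.Bijective (θp hf M g c) := by
  haveI := isAffine_bcPb hf g c
  let s := EtOver.pullbackSnd (EtOver.bcMap hf g) c
  letI := (pb g).toAlgebra
  letI := (ρc hf c).toAlgebra
  letI := (ρ' hf g c).toAlgebra
  letI := (pb s).toAlgebra
  letI : Algebra (Γ₀ E) (Γ₀ (bcPb hf g c)) := ((ρ' hf g c).comp (pb g)).toAlgebra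
  letI := secPush hf M c
  haveI : IsScalarTower (Γ₀ E) (Γ₀ E') (Γ₀ (bcPb hf g c)) := IsScalarTower.of_algebraMap_eq fun r => rfl
  haveI : IsScalarTower (Γ₀ E) (Γ₀ V) (Γ₀ (bcPb hf g c)) :=
    IsScalarTower.of_algebraMap_eq fun r => ρ'_pb hf g c r
  haveI : IsScalarTower (Γ₀ E) (Γ₀ V) (sectModEt M V) := ⟨fun a b m => mul_smul (ρc hf c a) b m⟩
  haveI : Algebra.IsPushout (Γ₀ E) (Γ₀ E') (Γ₀ V) (Γ₀ (bcPb hf g c)) :=
    CommRingCat.isPushout_iff_isPushout.1 (isPushout_appTop_of_isPullback (isPullback_bcPb hf g c))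
  exact bijective_cancel (θp hf M g c) (θ M s) (bc_of_isQuasicoherent M s) fun b m => rfl

variable [IsAffine E.obj.left.left] [IsAffine E'.obj.left.left] [M.IsQuasicoherent]

theorem bc_push [CompactSpace (EtOver.bcObj hf E).obj.left.left]
    [QuasiSeparatedSpace (EtOver.bcObj hf E).obj.left.left] : BC ((pushModEt hf).obj M) g := by
  let W := EtOver.bcObj hf E
  let W' := EtOver.bcObj hf E'
  let bm : W' ⟶ W := EtOver.bcMap hf g
  obtain ⟨ι, _, V, c, hV, -, hc⟩ := exists_finite_cover (E := W) ((etTop X).top_mem W)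
  haveI := hV
  have hov : ∀ i : ι × ι, ∃ (κ : Type u) (_ : Finite κ) (B : κ → EtOver X)
      (d : ∀ b, B b ⟶ EtOver.pullbackObj (c i.1) (c i.2)), (∀ b, IsAffine (B b).obj.left.left) ∧ IsCover d := by
    intro i
    haveI : CompactSpace (EtOver.pullbackObj (c i.1) (c i.2)).obj.left.left := by
      have sq := (EtOver.isPullback (c i.1) (c i.2)).map (EtOver.toScheme X)
      haveI : QuasiCompact (c i.2).hom.left.left :=
        quasiCompact_of_compactSpace _
      haveI : QuasiCompact ((EtOver.toScheme X).map (EtOver.pullbackFst (c i.1) (c i.2))) :=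
        MorphismProperty.of_isPullback (P := @QuasiCompact) sq.flip ‹_›
      haveI : CompactSpace ((EtOver.toScheme X).obj (V i.1) : Scheme) :=
        inferInstanceAs (CompactSpace (V i.1).obj.left.left)
      exact QuasiCompact.compactSpace_of_compactSpace
        ((EtOver.toScheme X).map (EtOver.pullbackFst (c i.1) (c i.2)))
    obtain ⟨κ, hκ, B, d, hB, -, hd⟩ := exists_finite_cover ((etTop X).top_mem (EtOver.pullbackObj (c i.1) (c i.2)))
    exact ⟨κ, hκ, B, d, hB, hd⟩
  choose κ hκ B d hB hd using hov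
  haveI := hκ
  let Λ := Σ i : ι × ι, κ i
  haveI : ∀ l : Λ, IsAffine (B l.1 l.2).obj.left.left := fun l => hB _ _
  let a₁ : ∀ l : Λ, B l.1 l.2 ⟶ V l.1.1 := fun l => d l.1 l.2 ≫ EtOver.pullbackFst _ _
  let a₂ : ∀ l : Λ, B l.1 l.2 ⟶ V l.1.2 := fun l => d l.1 l.2 ≫ EtOver.pullbackSnd _ _
  let e : ∀ l : Λ, B l.1 l.2 ⟶ W := fun l => a₁ l ≫ c l.1.1
  have he : ∀ l, a₁ l ≫ c l.1.1 = a₂ l ≫ c l.1.2 := fun l => by
    simp only [a₁, a₂, Category.assoc, EtOver.pullback_condition]
  letI := (pb g).toAlgebra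
  letI := fun k => secPush hf M (c k)
  letI := fun l => secPush hf M (e l)
  haveI : Module.Flat (Γ₀ E) (Γ₀ E') := flat_pb g
  let N := (pushModEt hf).obj M
  let r : sectModEt N E →ₗ[Γ₀ E] Π k, sectModEt M (V k) :=
    { toFun := fun m k => res M (c k) m
      map_add' := fun m m' => funext fun k => map_add (res M (c k)) _ _
      map_smul' := fun a m => funext fun k =>
        res_smul M (c k) (Groth.L09.Pull.π₀ hf E a) (show sectModEt M W from m) }
  let D : (Π k, sectModEt M (V k)) →ₗ[Γ₀ E] Π l : Λ, sectModEt M (B l.1 l.2) :=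
    { toFun := fun p l => res M (a₁ l) (p l.1.1) - res M (a₂ l) (p l.1.2)
      map_add' := fun p p' => funext fun l => by simp only [Pi.add_apply, map_add]; abel
      map_smul' := fun a p => funext fun l => by
        show res M (a₁ l) (pb (c l.1.1) (Groth.L09.Pull.π₀ hf E a) • p l.1.1) -
            res M (a₂ l) (pb (c l.1.2) (Groth.L09.Pull.π₀ hf E a) • p l.1.2) =
          pb (e l) (Groth.L09.Pull.π₀ hf E a) • (_ - _)
        rw [res_smul, res_smul, smul_sub, ← pb_comp, ← pb_comp, ← he] }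
  let v₁ : ∀ l : Λ, bcPb hf g (e l) ⟶ bcPb hf g (c l.1.1) := fun l =>
    (EtOver.isPullback bm (c l.1.1)).lift (EtOver.pullbackFst bm (e l)) (EtOver.pullbackSnd bm (e l) ≫ a₁ l)
      (by rw [EtOver.pullback_condition, Category.assoc])
  let v₂ : ∀ l : Λ, bcPb hf g (e l) ⟶ bcPb hf g (c l.1.2) := fun l =>
    (EtOver.isPullback bm (c l.1.2)).lift (EtOver.pullbackFst bm (e l)) (EtOver.pullbackSnd bm (e l) ≫ a₂ l)
      (by rw [EtOver.pullback_condition, Category.assoc, ← he])
  have hv₁ : ∀ l, v₁ l ≫ EtOver.pullbackFst bm (c l.1.1) = EtOver.pullbackFst bm (e l) :=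
    fun l => IsPullback.lift_fst _ _ _ _
  have hv₁' : ∀ l, v₁ l ≫ EtOver.pullbackSnd bm (c l.1.1) = EtOver.pullbackSnd bm (e l) ≫ a₁ l :=
    fun l => IsPullback.lift_snd _ _ _ _
  have hv₂ : ∀ l, v₂ l ≫ EtOver.pullbackFst bm (c l.1.2) = EtOver.pullbackFst bm (e l) :=
    fun l => IsPullback.lift_fst _ _ _ _
  have hv₂' : ∀ l, v₂ l ≫ EtOver.pullbackSnd bm (c l.1.2) = EtOver.pullbackSnd bm (e l) ≫ a₂ l :=
    fun l => IsPullback.lift_snd _ _ _ _
  let r' : sectModEt N E' →+ Π k, sectModEt M (bcPb hf g (c k)) :=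
    AddMonoidHom.mk' (fun t k => res M (EtOver.pullbackFst bm (c k)) t) fun t t' => funext fun k =>
      map_add (res M (EtOver.pullbackFst bm (c k))) _ _
  let D' : (Π k, sectModEt M (bcPb hf g (c k))) →+ Π l : Λ, sectModEt M (bcPb hf g (e l)) :=
    AddMonoidHom.mk' (fun y l => res M (v₁ l) (y l.1.1) - res M (v₂ l) (y l.1.2)) fun y y' => funext fun l => by
      simp only [Pi.add_apply, map_add]; abel
  refine bijective_of_equalizer r D ?_ ?_ (θ N g) (fun k => θp hf M g (c k)) (fun l => θp hf M g (e l))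
    (fun k => bijective_θp hf M g (c k)) (fun l => bijective_θp hf M g (e l)) r' D' ?_ ?_ ?_ ?_
  · exact fun m m' h => eq_of_cover M hc fun k => congrFun h k
  · intro p
    refine ⟨fun hp => ?_, ?_⟩
    · obtain ⟨m, hm⟩ := exists_glue M hc p fun i j => eq_of_cover M (hd (i, j)) fun b => by
        rw [← res_comp, ← res_comp]
        exact sub_eq_zero.1 (congrFun hp ⟨(i, j), b⟩)
      exact ⟨m, funext hm⟩
    · rintro ⟨m, rfl⟩
      funext l
      show res M (a₁ l) (res M (c l.1.1) m) - res M (a₂ l) (res M (c l.1.2) m) = 0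
      rw [res_congr M (he l), sub_self]
  · exact fun t t' h => eq_of_cover M (hc.pullback bm) fun k => congrFun h k
  · intro t
    funext l
    show res M (v₁ l) (res M _ t) - res M (v₂ l) (res M _ t) = 0
    rw [← res_comp, ← res_comp, hv₁, hv₂, sub_self]
  · intro b m k
    show res M (EtOver.pullbackFst bm (c k)) (Groth.L09.Pull.π₀ hf E' b • res M bm (show sectModEt M W from m)) =
      ρ' hf g (c k) b • res M (EtOver.pullbackSnd bm (c k)) (res M (c k) m)
    rw [res_smul, res_congr M (EtOver.pullback_condition bm (c k))]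
    rfl
  · intro b p y hy l
    show res M (v₁ l) (y l.1.1) - res M (v₂ l) (y l.1.2) =
      ρ' hf g (e l) b • res M (EtOver.pullbackSnd bm (e l)) (res M (a₁ l) (p l.1.1) - res M (a₂ l) (p l.1.2))
    rw [hy, hy]
    show res M (v₁ l) (ρ' hf g (c l.1.1) b • res M (EtOver.pullbackSnd bm (c l.1.1)) (p l.1.1)) -
      res M (v₂ l) (ρ' hf g (c l.1.2) b • res M (EtOver.pullbackSnd bm (c l.1.2)) (p l.1.2)) = _
    rw [res_smul, res_smul]
    show pb (v₁ l) (pb (EtOver.pullbackFst bm (c l.1.1)) (Groth.L09.Pull.π₀ hf E' b)) • _ -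
      pb (v₂ l) (pb (EtOver.pullbackFst bm (c l.1.2)) (Groth.L09.Pull.π₀ hf E' b)) • _ =
        pb (EtOver.pullbackFst bm (e l)) (Groth.L09.Pull.π₀ hf E' b) • _
    rw [← pb_comp, ← pb_comp, hv₁, hv₂, map_sub, smul_sub, res_congr M (hv₁' l), res_congr M (hv₂' l)]

omit [IsAffine E.obj.left.left] [IsAffine E'.obj.left.left] in
/-- Direct images along quasi-compact quasi-separated morphisms preserve quasi-coherence. -/
theorem isQuasicoherent_push (hqc : IsQuasiCompactMor f) (hqs : IsQuasiSeparatedMor f) :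
    ((pushModEt hf).obj M).IsQuasicoherent := by
  refine isQuasicoherent_of_bc_affine _ fun E₀ E₁ _ _ g₀ => ?_
  haveI : QuasiCompact (EtOver.bcπ hf E₀).left :=
    Groth.L23.repWith_snd (Groth.L23.repWith_quasiCompact_of_isQuasiCompactMor hf hqc) E₀.obj.hom
  haveI : QuasiSeparated (EtOver.bcπ hf E₀).left :=
    Groth.L23.repWith_snd ((Groth.L23.isQuasiSeparatedMor_iff hf).1 hqs) E₀.obj.hom
  haveI : CompactSpace (EtOver.bcObj hf E₀).obj.left.left :=
    QuasiCompact.compactSpace_of_compactSpace (EtOver.bcπ hf E₀).left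
  haveI : QuasiSeparatedSpace (EtOver.bcObj hf E₀).obj.left.left :=
    quasiSeparatedSpace_of_quasiSeparated (EtOver.bcπ hf E₀).left
  exact bc_push hf M g₀

end Groth.L09.ModEt
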