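import Groth.Agent.L09.ModEt.Push
import Mathlib.RingTheory.Ideal.AssociatedPrime.Finiteness

/-!
# Quasi-coherent modules of finite type on the small etale site
-/

universe u

open CategoryTheory CategoryTheory.Limits AlgebraicGeometry Opposite AlgSp TensorProduct

set_option autoImplicit false
set_option linter.style.haveILetI false
set_option backward.isDefEq.respectTransparency false
set_option backward.isDefEq.respectTransparency.types false

noncomputable section

namespace Groth.L09.ModEt

variable {S : Scheme.{u}} {X : Sp S} (M : ModEt X)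

theorem res_linearCombination {E E' : EtOver X} (g : E' ⟶ E) {I : Type (u + 1)} (s : I → sectModEt M E)
    (b : I →₀ Γ₀ E) :
    res M g (Finsupp.linearCombination (Γ₀ E) s b) =
      Finsupp.linearCombination (Γ₀ E') (fun i => res M g (s i)) (push g b) := by
  induction b using Finsupp.induction_linear with
  | zero => simp
  | add x y hx hy => simp only [map_add, hx, hy]
  | single i r => simp [push]

/-- Membership in a span descends along a surjection. -/
theorem mem_span_of_surjective [M.IsQuasicoherent] {E D : EtOver X} [IsAffine E.obj.left.left]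
    [IsAffine D.obj.left.left] (d : D ⟶ E) (hd : Function.Surjective d.hom.left.left)
    {I : Type (u + 1)} (s : I → sectModEt M E) {m : sectModEt M E}
    (h : res M d m ∈ Submodule.span (Γ₀ D) (Set.range fun i => res M d (s i))) :
    m ∈ Submodule.span (Γ₀ E) (Set.range s) := by
  obtain ⟨f, hf⟩ := Finsupp.mem_span_range_iff_exists_finsupp.1 h
  letI := (pb d).toAlgebra
  haveI : Module.FaithfullyFlat (Γ₀ E) (Γ₀ D) := Data.faithfullyFlat_pb d hd
  let N := Submodule.span (Γ₀ E) (Set.range s)
  let x : Γ₀ D ⊗[Γ₀ E] sectModEt M E := f.sum fun i r => r ⊗ₜ s i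
  have hx : x = (1 : Γ₀ D) ⊗ₜ m := by
    refine (bc_of_isQuasicoherent M d).1 ?_
    rw [map_finsuppSum, θ_tmul, one_smul, ← hf]
    rfl
  have h0 : (1 : Γ₀ D) ⊗ₜ[Γ₀ E] N.mkQ m = 0 := by
    have := congrArg (N.mkQ.lTensor (Γ₀ D)) hx
    rw [LinearMap.lTensor_tmul] at this
    rw [← this, map_finsuppSum]
    refine Finset.sum_eq_zero fun i _ => ?_
    show (N.mkQ.lTensor _) (_ ⊗ₜ s i) = 0
    rw [LinearMap.lTensor_tmul, Submodule.mkQ_apply,
      (Submodule.Quotient.mk_eq_zero N).2 (Submodule.subset_span ⟨i, rfl⟩), TensorProduct.tmul_zero]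
  exact (Submodule.Quotient.mk_eq_zero N).1 (Module.FaithfullyFlat.tensorProduct_mk_injective
    (A := Γ₀ E) (B := Γ₀ D) (sectModEt M E ⧸ N) (h0.trans (TensorProduct.tmul_zero _ _).symm))

theorem mem_span_of_glue {D : EtOver X} {ι : Type u} {V : ι → EtOver X} {e : ∀ k, V k ⟶ D} (he : IsCover e)
    {I : Type (u + 1)} (s : I → sectModEt M D) {y : sectModEt M D} (f : I →₀ Γ₀ D)
    (h : ∀ k, Finsupp.linearCombination (Γ₀ (V k)) (fun i => res M (e k) (s i)) (push (e k) f) = res M (e k) y) :
    y ∈ Submodule.span (Γ₀ D) (Set.range s) :=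
  Finsupp.mem_span_range_iff_exists_finsupp.2 ⟨f, (Finsupp.linearCombination_apply _ _).symm.trans
    (eq_of_cover M he fun k => by rw [res_linearCombination, h k])⟩

/-- Membership in the span of finitely many sections descends along a cover. -/
theorem mem_span_of_cover [M.IsQuasicoherent] {E : EtOver X} [IsAffine E.obj.left.left] {ι : Type u} [Finite ι]
    {V : ι → EtOver X} [∀ k, IsAffine (V k).obj.left.left] {g : ∀ k, V k ⟶ E} (hg : IsCover g)
    {I : Type (u + 1)} (s : I → sectModEt M E) {m : sectModEt M E}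
    (h : ∀ k, res M (g k) m ∈ Submodule.span (Γ₀ (V k)) (Set.range fun i => res M (g k) (s i))) :
    m ∈ Submodule.span (Γ₀ E) (Set.range s) := by
  choose b hb using fun k => Finsupp.mem_span_range_iff_exists_finsupp.1 (h k)
  obtain ⟨f, hf⟩ := exists_glue_vec V g b
  refine mem_span_of_surjective M (sigmaDesc V g) (surjective_sigmaDesc V g hg) s
    (mem_span_of_glue M (isCover_sigmaι V g) _ f fun k => ?_)
  rw [hf k, ← res_comp, sigmaι_desc, Finsupp.linearCombination_apply]
  simp only [← res_comp, sigmaι_desc]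
  exact hb k

/-- The values of generating sections at an object over the base. -/
def genAt {E₀ : EtOver X} (σ : (M.over E₀).GeneratingSections) {V : EtOver X} (h : V ⟶ E₀) (j : σ.I) :
    sectModEt M V :=
  (σ.s j).eval (op (Over.mk h))

/-- Generating sections over an object generate the sections over the affine objects over it. -/
theorem mem_span_generators [M.IsQuasicoherent] {E₀ : EtOver X} (σ : (M.over E₀).GeneratingSections)
    {V : EtOver X} [IsAffine V.obj.left.left] (h : V ⟶ E₀) (y : sectModEt M V) :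
    y ∈ Submodule.span (Γ₀ V)
      (Set.range (genAt M σ h)) := by
  let ob : ∀ {W : EtOver X}, (W ⟶ V) → Over E₀ := fun a => Over.mk (a ≫ h)
  let t : σ.I → sectModEt M V := genAt M σ h
  have hsec : ∀ {W : EtOver X} (a : W ⟶ V), (fun j => res M a (t j)) = fun j => (σ.s j).eval (op (ob a)) :=
    fun {W} a => funext fun j => (σ.s j).2 (Over.homMk a rfl : ob a ⟶ Over.mk h).op
  refine Exists.elim (exists_span (M.over E₀) σ (Over.mk h) y) fun T hT' => ?_
  have hT : T ∈ etTop X V := hT'.1
  refine Exists.elim (exists_finite_cover hT) fun κ hκ => ?_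
  obtain ⟨_, W, e, hW, he, hec⟩ := hκ
  haveI := hW
  refine mem_span_of_cover M hec t fun l => ?_
  rw [hsec]
  exact hT'.2 (e l) (he l) (e l ≫ h) rfl

/-- Sections of a module of finite type over an affine object form a finite module. -/
theorem finite_sectModEt [M.IsQuasicoherent] [M.IsFiniteType] (E : EtOver X) [IsAffine E.obj.left.left] :
    Module.Finite (Γ₀ E) (sectModEt M E) := by
  classical
  obtain ⟨σ, hσ⟩ := SheafOfModules.IsFiniteType.exists_localGeneratorsData M
  haveI := hσ
  haveI : ∀ i, (σ.generators i).IsFiniteType := hσ.isFiniteType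
  obtain ⟨ι, _, V, c, hV, hR, hc⟩ := exists_finite_cover (σ.coversTop E)
  haveI := hV
  choose i hi using fun k => hR k
  let h : ∀ k, V k ⟶ σ.X (i k) := fun k => (hi k).some
  let t : ∀ k, (σ.generators (i k)).I → sectModEt M (V k) := fun k => genAt M (σ.generators (i k)) (h k)
  have hgen : ∀ k (y : sectModEt M (V k)), y ∈ Submodule.span (Γ₀ (V k)) (Set.range (t k)) := fun k y =>
    mem_span_generators M (σ.generators (i k)) (h k) y
  have hfrom : ∀ k (y : sectModEt M (V k)), ∃ T : Finset (sectModEt M E),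
      y ∈ Submodule.span (Γ₀ (V k)) (res M (c k) '' (T : Set (sectModEt M E))) := by
    intro k y
    letI := (pb (c k)).toAlgebra
    obtain ⟨z, rfl⟩ := (bc_of_isQuasicoherent M (c k)).2 y
    induction z using TensorProduct.induction_on with
    | zero => exact ⟨∅, by simp⟩
    | tmul b m =>
      refine ⟨{m}, ?_⟩
      rw [θ_tmul]
      exact Submodule.smul_mem _ b (Submodule.subset_span ⟨m, by simp, rfl⟩)
    | add z₁ z₂ h₁ h₂ =>
      obtain ⟨T₁, h₁⟩ := h₁
      obtain ⟨T₂, h₂⟩ := h₂
      refine ⟨T₁ ∪ T₂, ?_⟩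
      rw [map_add, Finset.coe_union, Set.image_union, Submodule.span_union]
      exact Submodule.add_mem_sup h₁ h₂
  choose T hT using hfrom
  cases nonempty_fintype ι
  haveI : ∀ k, Fintype (σ.generators (i k)).I := fun k => Fintype.ofFinite _
  let U : Finset (sectModEt M E) := Finset.univ.biUnion fun k => Finset.univ.biUnion fun j => T k (t k j)
  refine ⟨⟨U, eq_top_iff.2 fun m _ => ?_⟩⟩
  have hmem := mem_span_of_cover M hc (I := (U : Set (sectModEt M E))) Subtype.val (m := m) fun k => by
    refine (Submodule.span_le.2 ?_ : Submodule.span (Γ₀ (V k)) (Set.range (t k)) ≤ _) (hgen k (res M (c k) m))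
    rintro _ ⟨j, rfl⟩
    refine Submodule.span_mono ?_ (hT k (t k j))
    rintro _ ⟨n, hn, rfl⟩
    exact ⟨⟨n, Finset.mem_biUnion.2 ⟨k, Finset.mem_univ _, Finset.mem_biUnion.2 ⟨j, Finset.mem_univ _, hn⟩⟩⟩, rfl⟩
  simpa using hmem

/-- On a locally Noetherian space a coherent module has finitely many weakly associated points in a compact open. -/
theorem finite_weakAss_inter [M.IsQuasicoherent] [M.IsFiniteType] (hX : IsAlgSpace X) (hN : IsLocNoethSp X)
    {W : Set (Points X)} (hW : IsCompact W) : (WeakAssEt M ∩ W).Finite := by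
  choose E hE u hu using fun x : Points X => exists_affine_chart hX x
  obtain ⟨t, ht⟩ := hW.elim_finite_subcover (fun x => Set.range (Points.ofPt (E x).obj.hom))
    (fun x => (Groth.L23.isOpenMap_ofPt (E x).property).isOpen_range)
    (fun x _ => Set.mem_iUnion.2 ⟨x, u x, hu x⟩)
  haveI := hE
  have key : ∀ x, {w : ↥(E x).obj.left.left | IsWeakAssOn M (E x) w}.Finite := by
    intro x
    haveI : IsLocallyNoetherian (E x).obj.left.left :=
      Groth.L23.Pt.isLocallyNoetherian_of_chart hX hN (E x).property
    haveI : IsNoetherianRing (Γ₀ (E x)) :=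
      IsLocallyNoetherian.component_noetherian ⟨⊤, isAffineOpen_top _⟩
    haveI := finite_sectModEt M (E x)
    refine ((associatedPrimes.finite (Γ₀ (E x)) (sectModEt M (E x))).preimage
      (primeAtPt_injective _).injOn).subset fun w hw => ?_
    have hw' := (isWA_iff_weakAss _).1 ((isWeakAssOn_iff_isWA M (E x) w).1 hw)
    obtain ⟨hp, m, hm⟩ := Groth.L03.WeakAss.mem_ass_of_mem_weakAss_of_fg (IsNoetherian.noetherian _) hw'
    refine isAssociatedPrime_iff.2 ⟨hp, m, ?_⟩
    rw [hm]
    ext a
    rw [Submodule.mem_annihilator_span_singleton, Submodule.mem_colon_singleton, Submodule.mem_bot]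
  refine ((Set.Finite.biUnion t.finite_toSet fun x _ => (key x).image (Points.ofPt (E x).obj.hom))).subset ?_
  rintro y ⟨⟨E', hE', u', rfl, hwa⟩, hyW⟩
  obtain ⟨x, hx, w, hw⟩ := Set.mem_iUnion₂.1 (ht hyW)
  exact Set.mem_biUnion hx ⟨w, (isWeakAssOn_congr M w u' hw).2 hwa, hw⟩

end Groth.L09.ModEt
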