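import Groth.Agent.L09.ModEt.Sheafify
import Mathlib.Algebra.Category.ModuleCat.Sheaf.Colimits
import Mathlib.Algebra.Category.ModuleCat.Presheaf.Colimits

/-!
# Colimits of quasi-coherent modules on the small etale site
-/

universe u w w'

open CategoryTheory CategoryTheory.Limits AlgebraicGeometry Opposite AlgSp TensorProduct

set_option autoImplicit false
set_option linter.style.haveILetI false
set_option backward.isDefEq.respectTransparency false
set_option backward.isDefEq.respectTransparency.types false

noncomputable section

namespace Groth.L09.ModEt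

variable {S : Scheme.{u}} {X : Sp S}

theorem isQuasicoherent_sheafify {P : Pre X} (hP : BCP P) :
    ((PresheafOfModules.sheafification (R := OEtRing X) (𝟙 (OEtRing X).obj)).obj P).IsQuasicoherent := by
  let N := (PresheafOfModules.sheafification (R := OEtRing X) (𝟙 (OEtRing X).obj)).obj P
  let π : P ⟶ N.val := (PresheafOfModules.sheafificationAdjunction (R := OEtRing X) (𝟙 (OEtRing X).obj)).unit.app P
  haveI : Presheaf.IsLocallyInjective (etTop X) ((PresheafOfModules.toPresheaf _).map π) :=
    inferInstanceAs (Presheaf.IsLocallyInjective (etTop X) (CategoryTheory.toSheafify (etTop X) P.presheaf))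
  haveI : Presheaf.IsLocallySurjective (etTop X) ((PresheafOfModules.toPresheaf _).map π) :=
    inferInstanceAs (Presheaf.IsLocallySurjective (etTop X) (CategoryTheory.toSheafify (etTop X) P.presheaf))
  exact isQuasicoherent_of_bcp π hP

variable {J : Type w} [Category.{w'} J] [HasColimitsOfShape J AddCommGrpCat.{u + 1}]

theorem bcp_of_isColimit {D : J ⥤ Pre X} {c : Cocone D} (hc : IsColimit c) (hD : ∀ j, BCP (D.obj j)) :
    BCP c.pt := by
  intro E E' _ _ g
  letI := (pb g).toAlgebra
  let T := Γ₀ E' ⊗[Γ₀ E] pSect c.pt E
  let F := fun Z : EtOver X => PresheafOfModules.toPresheaf (OEtRing X).obj ⋙ (evaluation _ _).obj (op Z)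
  let hE := fun Z => isColimitOfPreserves (F Z) hc
  let ι := fun (j : J) (Z : EtOver X) =>
    AddMonoidHom.mk' (fun n : pSect (D.obj j) Z => (c.ι.app j).app (op Z) n)
      fun n n' => map_add ((c.ι.app j).app (op Z)).hom n n'
  have ι_smul : ∀ j Z (a : Γ₀ Z) n, ι j Z (a • n) = a • ι j Z n := fun j Z a n =>
    map_smul ((c.ι.app j).app (op Z)).hom (upΓ Z a) n
  have ι_pres : ∀ j n, ι j E' (pres (D.obj j) g n) = pres c.pt g (ι j E n) := fun j n =>
    PresheafOfModules.naturality_apply (c.ι.app j) g.op n
  let tr : ∀ j, Γ₀ E' ⊗[Γ₀ E] pSect (D.obj j) E →ₗ[Γ₀ E] T := fun j =>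
    LinearMap.lTensor _ { toFun := ι j E, map_add' := map_add _, map_smul' := ι_smul j E }
  let e := fun j => AddEquiv.ofBijective _ (hD j g)
  have he : ∀ j x, (e j).symm (θP (D.obj j) g x) = x := fun j x => (e j).symm_apply_apply x
  let s : Cocone (D ⋙ F E') :=
    { pt := AddCommGrpCat.of T
      ι :=
        { app := fun j => AddCommGrpCat.ofHom (AddMonoidHom.mk' (fun y => tr j ((e j).symm y)) fun y z => by
            simp only [map_add])
          naturality := fun j j' f => AddCommGrpCat.ext fun y => by
            show tr j' ((e j').symm ((D.map f).app (op E') y)) = tr j ((e j).symm y)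
            obtain ⟨x, rfl⟩ := (hD j g).2 y
            rw [he]
            induction x using TensorProduct.induction_on with
            | zero => simp only [map_zero]
            | tmul b n =>
              have h : (D.map f).app (op E') (θP (D.obj j) g (b ⊗ₜ n)) =
                  θP (D.obj j') g (b ⊗ₜ (D.map f).app (op E) n) := by
                show (D.map f).app (op E') (upΓ E' b • pres (D.obj j) g n) = b • pres (D.obj j') g _
                exact (map_smul ((D.map f).app (op E')).hom _ _).trans
                  (congrArg (upΓ E' b • ·) (PresheafOfModules.naturality_apply (D.map f) g.op n))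
              rw [h, he]
              show b ⊗ₜ ι j' E ((D.map f).app (op E) n) = b ⊗ₜ ι j E n
              congr 1
              exact ConcreteCategory.congr_hom
                ((PresheafOfModules.evaluation (OEtRing X).obj (op E)).congr_map (c.w f)) n
            | add x x' hx hx' => simp only [map_add, hx, hx'] } }
  let σ : pSect c.pt E' →+ T := ((hE E').desc s).hom
  have hσ : ∀ j y, σ (ι j E' y) = tr j ((e j).symm y) := fun j y =>
    ConcreteCategory.congr_hom ((hE E').fac s j) y
  have h₁ : ∀ t : T, σ (θP c.pt g t) = t := fun t => by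
    induction t using TensorProduct.induction_on with
    | zero => simp
    | tmul b n =>
      have : (hE E).desc ((F E).mapCocone c) ≫ AddCommGrpCat.ofHom (AddMonoidHom.mk'
          (fun n : pSect c.pt E => σ (θP c.pt g (b ⊗ₜ n)) - b ⊗ₜ n) fun n n' => by
            simp only [TensorProduct.tmul_add, map_add]; abel) = 0 :=
        (hE E).hom_ext fun j => by
          rw [(hE E).fac_assoc, comp_zero]
          refine AddCommGrpCat.ext fun n => ?_
          show σ (θP c.pt g (b ⊗ₜ ι j E n)) - b ⊗ₜ ι j E n = 0
          rw [sub_eq_zero, θP_tmul, ← ι_pres, ← ι_smul, hσ,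
            show b • pres (D.obj j) g n = θP (D.obj j) g (b ⊗ₜ n) from rfl, he]
          rfl
      rw [(hE E).desc_self, Category.id_comp] at this
      exact sub_eq_zero.1 (ConcreteCategory.congr_hom this n)
    | add x y hx hy => simp only [map_add, hx, hy]
  have h₂ : ∀ y, θP c.pt g (σ y) = y := fun y => by
    have : AddCommGrpCat.ofHom ((θP c.pt g).comp σ) = 𝟙 ((F E').obj c.pt) := (hE E').hom_ext fun j => by
      refine AddCommGrpCat.ext fun y => ?_
      show θP c.pt g (σ (ι j E' y)) = ι j E' y
      rw [hσ]
      obtain ⟨x, rfl⟩ := (hD j g).2 y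
      rw [he]
      induction x using TensorProduct.induction_on with
      | zero => simp only [map_zero]
      | tmul b n =>
        show b • pres c.pt g (ι j E n) = ι j E' (b • pres (D.obj j) g n)
        rw [ι_smul, ι_pres]
      | add x x' hx hx' => simp only [map_add, hx, hx']
    exact ConcreteCategory.congr_hom this y
  exact ⟨Function.LeftInverse.injective h₁, Function.RightInverse.surjective h₂⟩

theorem isQuasicoherent_colimit (D : J ⥤ ModEt X) [HasColimit D] (hD : ∀ j, (D.obj j).IsQuasicoherent) :
    (colimit D).IsQuasicoherent := by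
  let L := PresheafOfModules.sheafification (R := OEtRing X) (𝟙 (OEtRing X).obj)
  let D₀ : J ⥤ Pre X := D ⋙ SheafOfModules.forget _
  have hq : (L.obj (colimit D₀)).IsQuasicoherent :=
    isQuasicoherent_sheafify (bcp_of_isColimit (colimit.isColimit D₀) fun j E E' _ _ g =>
      haveI := hD j
      bc_of_isQuasicoherent (D.obj j) g)
  let e : D ≅ D₀ ⋙ L :=
    Functor.isoWhiskerLeft D (asIso (PresheafOfModules.sheafificationAdjunction (𝟙 (OEtRing X).obj)).counit).symm
  let e' : L.obj (colimit D₀) ≅ colimit D := preservesColimitIso L D₀ ≪≫ (HasColimit.isoOfNatIso e).symm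
  exact (SheafOfModules.isQuasicoherent (OEtRing X)).prop_of_iso e' hq

end Groth.L09.ModEt
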