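import Groth.Prelude.Def_AlgSpOX2
import Mathlib.Algebra.Category.ModuleCat.Presheaf.Pullback
import Mathlib.CategoryTheory.Functor.KanExtension.Adjunction

/-!
# Inverse images of modules on small etale sites exist
-/

universe w u

open CategoryTheory CategoryTheory.Limits AlgebraicGeometry Opposite AlgSp

set_option autoImplicit false
set_option linter.style.haveILetI false
set_option backward.isDefEq.respectTransparency false
set_option backward.isDefEq.respectTransparency.types false

noncomputable section

namespace Groth.L09.ModEt

section Presheaf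

variable {C D : Type w} [Category.{u} C] [Category.{u} D] {F : C ⥤ D} {R : Dᵒᵖ ⥤ RingCat.{w}}
  {R₀ : Cᵒᵖ ⥤ RingCat.{w}} (φ : R₀ ⟶ F.op ⋙ R) [∀ G : Cᵒᵖ ⥤ Type w, F.op.HasLeftKanExtension G]

/-- The underlying presheaf of sets. -/
abbrev setsOf {C' : Type w} [Category.{u} C'] (R' : C'ᵒᵖ ⥤ RingCat.{w}) :
    PresheafOfModules.{w} R' ⥤ C'ᵒᵖ ⥤ Type w :=
  PresheafOfModules.toPresheaf R' ⋙ (Functor.whiskeringRight _ _ _).obj (CategoryTheory.forget Ab)

/-- The left adjoint of the composite forgetful functor. -/
def freeLanAdj : F.op.lan ⋙ PresheafOfModules.free R ⊣ PresheafOfModules.pushforward φ ⋙ setsOf R₀ :=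
  ((F.op.lanAdjunction (Type w)).comp (PresheafOfModules.freeAdjunction R)).ofNatIsoRight
    (NatIso.ofComponents fun M => Iso.refl _)

theorem isCorepresentable_free (P : Cᵒᵖ ⥤ Type w) :
    (PresheafOfModules.pushforward φ).leftAdjointObjIsDefined ((PresheafOfModules.free R₀).obj P) := by
  rw [Functor.leftAdjointObjIsDefined_iff]
  refine Functor.CorepresentableBy.isCorepresentable (X := (F.op.lan ⋙ PresheafOfModules.free R).obj P) ?_
  exact
    { homEquiv := fun {M} => ((freeLanAdj φ).homEquiv P M).trans
        ((PresheafOfModules.freeAdjunction R₀).homEquiv P ((PresheafOfModules.pushforward φ).obj M)).symm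
      homEquiv_comp := fun {M N} g f => by
        show ((PresheafOfModules.freeAdjunction R₀).homEquiv P _).symm ((freeLanAdj φ).homEquiv P N (f ≫ g)) =
          ((PresheafOfModules.freeAdjunction R₀).homEquiv P _).symm ((freeLanAdj φ).homEquiv P M f) ≫ _
        rw [Adjunction.homEquiv_naturality_right]
        exact Adjunction.homEquiv_naturality_right_symm _ _ _ }

theorem isRightAdjoint_pushforward_presheaf : (PresheafOfModules.pushforward.{w} φ).IsRightAdjoint := by
  refine Functor.isRightAdjoint_of_leftAdjointObjIsDefined_eq_top ?_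
  ext M
  simp only [Pi.top_apply, Prop.top_eq_true, iff_true]
  let adj := PresheafOfModules.freeAdjunction R₀
  haveI : (setsOf R₀).Faithful := inferInstance
  let p := adj.counit.app M
  haveI : Epi p := inferInstance
  let K := kernel p
  haveI : Epi (adj.counit.app K) := inferInstance
  let q := adj.counit.app K ≫ kernel.ι p
  have hq : q ≫ p = 0 := by rw [Category.assoc, kernel.condition, comp_zero]
  let hc : IsColimit (CokernelCofork.ofπ p hq) :=
    isCokernelEpiComp (Abelian.epiIsCokernelOfKernel _ (kernelIsKernel p)) (adj.counit.app K) rfl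
  refine Functor.leftAdjointObjIsDefined_of_isColimit hc fun j => ?_
  cases j <;> exact isCorepresentable_free φ _

end Presheaf

variable {S : Scheme.{u}} {X Y : Sp S} {f : X ⟶ Y}

/-- Inverse images of modules along representable morphisms exist. -/
instance isRightAdjoint_pushModEt (hf : Representable f) :
    (SheafOfModules.pushforward.{u + 1} (bcRingHom hf)).IsRightAdjoint := by
  haveI : (PresheafOfModules.pushforward.{u + 1} (bcRingHom hf).hom).IsRightAdjoint :=
    isRightAdjoint_pushforward_presheaf _
  infer_instance

end Groth.L09.ModEt
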