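import Groth.Agent.L09.ModEt.Exact
import Groth.Agent.L09.ModEt.PullExists
import Groth.Agent.L09.Pull.Qcoh
import Mathlib.Algebra.Category.ModuleCat.Presheaf.Submodule

/-!
# Modules killed by the ideal of a closed subspace
-/

universe u

open CategoryTheory CategoryTheory.Limits AlgebraicGeometry Opposite AlgSp TensorProduct

set_option autoImplicit false
set_option linter.style.haveILetI false
set_option backward.isDefEq.respectTransparency false
set_option backward.isDefEq.respectTransparency.types false

noncomputable section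

namespace Groth.L09.ModEt

variable {S : Scheme.{u}} {X : Sp S}

/-- A morphism which is bijective on affine objects is an isomorphism. -/
theorem isIso_of_bijective_affine {M N : ModEt X} (φ : M ⟶ N)
    (h : ∀ (E : EtOver X), IsAffine E.obj.left.left → Function.Bijective (sapp φ E)) : IsIso φ := by
  have hinj : ∀ E : EtOver X, Function.Injective (sapp φ E) := fun E s t hst =>
    eq_of_cover M (Groth.L09.Pull.isCover_affineOpens E) fun B => (h (openObj E B.1) B.2).1 (by rw [sapp_res, sapp_res, hst])
  have hsurj : ∀ E : EtOver X, Function.Surjective (sapp φ E) := fun E n => by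
    have hcov := Groth.L09.Pull.isCover_affineOpens E
    choose m hm using fun B : E.obj.left.left.affineOpens => (h (openObj E B.1) B.2).2 (res N (openι E B.1) n)
    obtain ⟨s, hs⟩ := exists_glue M hcov m fun B B' => hinj _ (by
      rw [sapp_res, sapp_res, hm, hm, res_congr N (EtOver.pullback_condition _ _)])
    exact ⟨s, eq_of_cover N hcov fun B => by rw [← sapp_res, hs, hm]⟩
  haveI : ∀ E : (EtOver X)ᵒᵖ, IsIso (((PresheafOfModules.toPresheaf _).map φ.val).app E) := fun E =>
    (ConcreteCategory.isIso_iff_bijective _).2 ⟨hinj E.unop, hsurj E.unop⟩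
  haveI : IsIso ((PresheafOfModules.toPresheaf _).map φ.val) := NatIso.isIso_of_isIso_app _
  haveI : IsIso ((SheafOfModules.forget _).map φ) := by
    show IsIso φ.val
    exact isIso_of_reflects_iso φ.val (PresheafOfModules.toPresheaf _)
  exact isIso_of_reflects_iso φ (SheafOfModules.forget _)

/-- The sections over affine objects are killed by the ideal. -/
def Killed (I : IdealEt X) (M : ModEt X) : Prop :=
  ∀ (E : EtOver X) (hE : IsAffine E.obj.left.left) (a : Γ₀ E) (s : sectModEt M E), a ∈ I.ideal E hE → a • s = 0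

theorem Killed.of_mono {I : IdealEt X} {M N : ModEt X} (h : Killed I N) (φ : M ⟶ N)
    (hφ : ∀ E : EtOver X, Function.Injective (sapp φ E)) : Killed I M := fun E hE a s ha =>
  hφ E (by rw [map_smul, h E hE a _ ha, map_zero])

theorem injective_sapp_of_mono {M N : ModEt X} (φ : M ⟶ N) [Mono φ] (E : EtOver X) :
    Function.Injective (sapp φ E) :=
  (ModuleCat.mono_iff_injective ((SheafOfModules.evaluation.{u + 1} (OEtRing X) (op E)).map φ)).1 inferInstance

section Sub

variable (I : IdealEt X) (M : ModEt X)

/-- The sections killed by the ideal after restriction to affine objects. -/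
def killedSub : M.val.Submodule where
  obj E :=
    { carrier := {s | ∀ (W : EtOver X) (hW : IsAffine W.obj.left.left) (g : W ⟶ E.unop) (a : Γ₀ W),
        a ∈ I.ideal W hW → a • res M g s = 0}
      add_mem' := fun hs ht W hW g a ha => by rw [map_add, smul_add, hs W hW g a ha, ht W hW g a ha, add_zero]
      zero_mem' := fun W _ g a _ => by rw [map_zero, smul_zero]
      smul_mem' := fun r s hs W hW g a ha => by
        have e : res M g (r • s) = pb g r.down • res M g s := res_smul M g r.down s
        rw [e, smul_comm, hs W hW g a ha, smul_zero] }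
  map {E E'} f s hs W hW g a ha := by
    show a • res M g (res M f.unop s) = 0
    rw [← res_comp]
    exact hs W hW _ a ha

theorem isSheaf_killedSub : Presheaf.IsSheaf (etTop X) (killedSub I M).toPresheafOfModules.presheaf := by
  rw [Presheaf.isSheaf_iff_isSheaf_forget _ _ (CategoryTheory.forget AddCommGrpCat.{u + 1}),
    isSheaf_iff_isSheaf_of_type]
  intro E R hR x hx
  let y : Presieve.FamilyOfElements (M.val.presheaf ⋙ CategoryTheory.forget _) R.arrows :=
    fun V f hf => Subtype.val (x f hf)
  have hy : y.Compatible := fun V₁ V₂ W g₁ g₂ f₁ f₂ h₁ h₂ e => congrArg Subtype.val (hx g₁ g₂ h₁ h₂ e)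
  obtain ⟨s, hs, huniq⟩ := isSheaf_type M R hR y hy
  have hmem : s ∈ (killedSub I M).obj (op E) := fun W hW g a ha => by
    haveI := hW
    obtain ⟨ι, _, V, c, hV, hc, hcov⟩ := exists_finite_cover (E := W) ((etTop X).pullback_stable g hR)
    refine eq_of_cover M hcov fun i => ?_
    rw [res_smul, ← res_comp, map_zero]
    have hc' : R (c i ≫ g) := hc i
    have h2 : res M (c i ≫ g) s = (x (c i ≫ g) hc').1 := hs (c i ≫ g) hc'
    have h3 := (x (c i ≫ g) hc').2 (V i) (hV i) (𝟙 _) (pb (c i) a) (I.map_le (c i) hW (hV i) (Ideal.mem_map_of_mem _ ha))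
    rw [h2]
    rwa [res_id] at h3
  exact ⟨⟨s, hmem⟩, fun V f hf => Subtype.ext (hs f hf),
    fun t ht => Subtype.ext (huniq t.1 fun V f hf => congrArg Subtype.val (ht f hf))⟩

/-- The submodule of killed sections. -/
def killedMod : ModEt X := ⟨(killedSub I M).toPresheafOfModules, isSheaf_killedSub I M⟩

/-- Its inclusion. -/
def killedι : killedMod I M ⟶ M := ⟨(killedSub I M).ι⟩

instance : Mono (killedι I M) :=
  (SheafOfModules.forget (OEtRing X)).mono_of_mono_map (inferInstanceAs (Mono (killedSub I M).ι))

theorem killed_killedMod : Killed I (killedMod I M) := fun E hE a s ha => Subtype.ext (by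
  have h := s.2 E hE (𝟙 E) a ha
  rw [res_id] at h
  exact h)

theorem exists_factor_killed {N : ModEt X} (φ : N ⟶ M) (hN : Killed I N) : ∃ ψ : N ⟶ killedMod I M, ψ ≫ killedι I M = φ := by
  have hm : ∀ (E : (EtOver X)ᵒᵖ) (n : N.val.obj E), φ.val.app E n ∈ (killedSub I M).obj E := fun E n W hW g a ha => by
    show a • res M g (sapp φ E.unop n) = 0
    rw [← sapp_res, ← map_smul, hN W hW a _ ha, map_zero]
  refine ⟨⟨{ app := fun E => ModuleCat.ofHom (LinearMap.codRestrict _ (φ.val.app E).hom (hm E))
             naturality := fun {E E'} f => ModuleCat.hom_ext (LinearMap.ext fun n => Subtype.ext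
               (PresheafOfModules.naturality_apply φ.val f n)) }⟩, ?_⟩
  exact SheafOfModules.hom_ext (PresheafOfModules.Hom.ext rfl)

end Sub

section Closed

variable {Z : Sp S} {i : Z ⟶ X} (hi : RepWith @IsClosedImmersion i)

theorem surjective_π₀ (E : EtOver X) [IsAffine E.obj.left.left] :
    Function.Surjective (Groth.L09.Pull.π₀ hi.1 E) := by
  haveI : IsClosedImmersion (EtOver.bcπ hi.1 E).left := Groth.L23.repWith_snd hi E.obj.hom
  exact (EtOver.bcπ hi.1 E).left.app_surjective ⊤ (isAffineOpen_top _)

theorem killed_push (G : ModEt Z) : Killed (idealOfRep hi.1) ((pushModEt hi.1).obj G) := fun E hE a s ha => by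
  show upΓ (EtOver.bcObj hi.1 E) (Groth.L09.Pull.π₀ hi.1 E a) • (show sectModEt G (EtOver.bcObj hi.1 E) from s) = 0
  rw [show Groth.L09.Pull.π₀ hi.1 E a = 0 from ha, map_zero, zero_smul]

theorem bijective_η (F : ModEt X) [F.IsQuasicoherent] (hF : Killed (idealOfRep hi.1) F) (E : EtOver X)
    [IsAffine E.obj.left.left] : Function.Bijective (Groth.L09.Pull.η hi.1 F E) := by
  haveI : IsAffine (EtOver.bcObj hi.1 E).obj.left.left := by
    haveI : IsClosedImmersion (EtOver.bcπ hi.1 E).left := Groth.L23.repWith_snd hi E.obj.hom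
    exact isAffine_of_isAffineHom (EtOver.bcπ hi.1 E).left
  let u := 𝟙 (EtOver.bcObj hi.1 E)
  let R := Groth.L09.Pull.Rg hi.1 u
  have halg : ∀ r, Groth.L09.Pull.toΓ hi.1 (algebraMap (Γ₀ E) R r) = Groth.L09.Pull.π₀ hi.1 E r :=
    fun r => pb_id _
  have hθ : ∀ m, Groth.L09.Pull.θ' hi.1 F u (Groth.L09.Pull.mkTn hi.1 F u 1 m) = Groth.L09.Pull.η hi.1 F E m :=
    fun m => by rw [Groth.L09.Pull.θ'_mk, one_smul, res_id]
  have hsurj : Function.Surjective (TensorProduct.mk (Γ₀ E) R (sectModEt F E) 1) := by
    intro x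
    induction x using TensorProduct.induction_on with
    | zero => exact ⟨0, map_zero _⟩
    | tmul b m =>
      obtain ⟨a, ha⟩ := surjective_π₀ hi E b
      refine ⟨a • m, ?_⟩
      rw [TensorProduct.mk_apply, ← TensorProduct.smul_tmul, Algebra.smul_def, mul_one]
      exact congrArg (fun t : R => t ⊗ₜ[Γ₀ E] m) ((halg a).trans ha)
    | add x y hx hy =>
      obtain ⟨p, hp⟩ := hx
      obtain ⟨q, hq⟩ := hy
      exact ⟨p + q, by rw [map_add, hp, hq]⟩
  have hinj : Function.Injective (TensorProduct.mk (Γ₀ E) R (sectModEt F E) 1) := by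
    choose σ hσ using fun b : R => surjective_π₀ hi E b
    have hk : ∀ a a', Groth.L09.Pull.π₀ hi.1 E a = Groth.L09.Pull.π₀ hi.1 E a' →
        ∀ m : sectModEt F E, a • m = a' • m := fun a a' h m => by
      rw [← sub_eq_zero, ← sub_smul]
      exact hF E inferInstance (a - a') m (by
        show Groth.L09.Pull.π₀ hi.1 E (a - a') = 0
        rw [map_sub, h, sub_self])
    let L : R ⊗[Γ₀ E] sectModEt F E →+ sectModEt F E :=
      TensorProduct.liftAddHom
        (AddMonoidHom.mk' (fun b => DistribSMul.toAddMonoidHom (sectModEt F E) (σ b)) fun b b' =>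
          AddMonoidHom.ext fun m => by
            show σ (b + b') • m = σ b • m + σ b' • m
            rw [← add_smul]
            exact hk _ _ (by rw [map_add, hσ, hσ, hσ]) m)
        fun r b m => by
          show σ (r • b) • m = σ b • (r • m)
          rw [smul_smul]
          refine hk _ _ ?_ m
          rw [map_mul, hσ, hσ]
          show Groth.L09.Pull.toΓ hi.1 (r • b) = Groth.L09.Pull.toΓ hi.1 b * _
          rw [Algebra.smul_def, mul_comm]
          exact congrArg (Groth.L09.Pull.toΓ hi.1 b * ·) (halg r)
    intro m m' h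
    have := congrArg L h
    simp only [TensorProduct.mk_apply, L, TensorProduct.liftAddHom_tmul] at this
    change σ 1 • m = σ 1 • m' at this
    have h1 : ∀ n : sectModEt F E, σ 1 • n = n := fun n =>
      (hk (σ 1) 1 (by rw [hσ, map_one]) n).trans (one_smul _ n)
    rwa [h1, h1] at this
  have : Function.Bijective fun m => Groth.L09.Pull.θ' hi.1 F u (TensorProduct.mk (Γ₀ E) R (sectModEt F E) 1 m) :=
    (Groth.L09.Pull.bijective_θ' hi.1 F u).comp ⟨hinj, hsurj⟩
  exact (funext hθ : _ = (Groth.L09.Pull.η hi.1 F E : _ → _)) ▸ this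

theorem isIso_unit (F : ModEt X) [F.IsQuasicoherent] (hF : Killed (idealOfRep hi.1) F) :
    IsIso ((pullPushAdjModEt hi.1).unit.app F) :=
  isIso_of_bijective_affine _ fun E hE => haveI := hE; bijective_η hi F hF E

end Closed

end Groth.L09.ModEt
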