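import Mathlib.RingTheory.Flat.FaithfullyFlat.Algebra
import Mathlib.RingTheory.IsTensorProduct
import Mathlib.LinearAlgebra.TensorProduct.RightExactness
import Mathlib.LinearAlgebra.DirectSum.Finsupp
import Mathlib.LinearAlgebra.TensorProduct.Pi

/-!
# Descent of relations along faithfully flat ring maps
-/

universe u v w

open TensorProduct

set_option autoImplicit false

noncomputable section

namespace Groth.L09.ModEt

variable {A S : Type u} [CommRing A] [CommRing S] [Algebra A S] {I : Type w}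

/-- Scalar extension of coefficient vectors. -/
abbrev ext (A S : Type u) [CommRing A] [CommRing S] [Algebra A S] {I : Type w} : (I →₀ A) →ₗ[A] (I →₀ S) :=
  Finsupp.mapRange.linearMap (Algebra.linearMap A S)

/-- The extended span of relations. -/
abbrev extSpan (S : Type u) [CommRing S] [Algebra A S] (P : Submodule A (I →₀ A)) : Submodule S (I →₀ S) :=
  Submodule.span S (ext A S '' (P : Set (I →₀ A)))

/-- The class of a coefficient vector in the extended quotient. -/
def cls (S : Type u) [CommRing S] [Algebra A S] (P : Submodule A (I →₀ A)) :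
    (I →₀ S) →ₗ[S] S ⊗[A] ((I →₀ A) ⧸ P) :=
  Finsupp.linearCombination S fun i => (1 : S) ⊗ₜ Submodule.mkQ P (Finsupp.single i 1)

theorem cls_single (P : Submodule A (I →₀ A)) (i : I) (s : S) :
    cls S P (Finsupp.single i s) = s ⊗ₜ Submodule.mkQ P (Finsupp.single i 1) := by
  simp [cls, TensorProduct.smul_tmul']

theorem cls_smul_ext (P : Submodule A (I →₀ A)) (s : S) (b : I →₀ A) :
    cls S P (s • ext A S b) = s ⊗ₜ Submodule.mkQ P b := by
  induction b using Finsupp.induction_linear with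
  | zero => simp
  | add b b' h h' =>
    simp only [map_add, smul_add, h, h']
    exact (TensorProduct.tmul_add _ _ _).symm
  | single i a =>
    rw [map_smul, show ext A S (Finsupp.single i a) = Finsupp.single i (algebraMap A S a) by simp, cls_single,
      TensorProduct.smul_tmul', smul_eq_mul, mul_comm, ← Algebra.smul_def, TensorProduct.smul_tmul,
      ← map_smul, Finsupp.smul_single, smul_eq_mul, mul_one]

theorem cls_eq_zero {P : Submodule A (I →₀ A)} {x : I →₀ S} (h : x ∈ extSpan S P) : cls S P x = 0 := by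
  refine (Submodule.span_le.2 ?_ : extSpan S P ≤ LinearMap.ker (cls S P)) h
  rintro _ ⟨b, hb, rfl⟩
  show cls S P _ = 0
  rw [← one_smul S (ext A S b), cls_smul_ext, Submodule.mkQ_apply, (Submodule.Quotient.mk_eq_zero P).2 hb,
    TensorProduct.tmul_zero]

/-- The inverse of `cls` modulo the extended span. -/
def invCls (S : Type u) [CommRing S] [Algebra A S] (P : Submodule A (I →₀ A)) :
    S ⊗[A] ((I →₀ A) ⧸ P) →ₗ[A] (I →₀ S) ⧸ extSpan S P :=
  TensorProduct.lift (LinearMap.mk₂ A
    (fun s q => s • (P.liftQ (((extSpan S P).mkQ.restrictScalars A).comp (ext A S))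
      (fun b hb => (Submodule.Quotient.mk_eq_zero _).2 (Submodule.subset_span ⟨b, hb, rfl⟩)) q))
    (fun s s' q => add_smul _ _ _) (fun a s q => smul_assoc _ _ _) (fun s q q' => by rw [map_add, smul_add])
    (fun a s q => by rw [map_smul, smul_comm]))

theorem invCls_cls (P : Submodule A (I →₀ A)) (x : I →₀ S) : invCls S P (cls S P x) = (extSpan S P).mkQ x := by
  induction x using Finsupp.induction_linear with
  | zero => simp
  | add x y hx hy => simp only [map_add, hx, hy]
  | single i s =>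
    rw [cls_single]
    show s • (extSpan S P).mkQ (ext A S (Finsupp.single i 1)) = _
    simp [← Submodule.Quotient.mk_smul]

theorem mem_extSpan_iff {P : Submodule A (I →₀ A)} {x : I →₀ S} : x ∈ extSpan S P ↔ cls S P x = 0 :=
  ⟨cls_eq_zero, fun h => (Submodule.Quotient.mk_eq_zero _).1 (by
    rw [← Submodule.mkQ_apply, ← invCls_cls, h, map_zero])⟩

/-- Membership in a span of relations descends. -/
theorem mem_of_ext_mem [Module.FaithfullyFlat A S] {P : Submodule A (I →₀ A)} {b : I →₀ A}
    (h : ext A S b ∈ extSpan S P) : b ∈ P := by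
  rw [← Submodule.Quotient.mk_eq_zero]
  refine Module.FaithfullyFlat.tensorProduct_mk_injective (A := A) (B := S) ((I →₀ A) ⧸ P) ?_
  rw [map_zero]
  show (1 : S) ⊗ₜ Submodule.mkQ P b = 0
  rw [← cls_smul_ext, one_smul]
  exact cls_eq_zero h

variable {Q : Type v} [AddCommGroup Q] [Module A Q]

/-- The Amitsur complex is exact in degree zero. -/
theorem exists_eq_one_tmul [Module.FaithfullyFlat A S] (x : S ⊗[A] Q)
    (h : (1 : S) ⊗ₜ[A] x = LinearMap.lTensor S (TensorProduct.mk A S Q 1) x) : ∃ q, (1 : S) ⊗ₜ q = x := by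
  let f : Q →ₗ[A] S ⊗[A] Q := TensorProduct.mk A S Q 1
  let g : S ⊗[A] Q →ₗ[A] S ⊗[A] (S ⊗[A] Q) := TensorProduct.mk A S (S ⊗[A] Q) 1 - LinearMap.lTensor S f
  have hfg : g ∘ₗ f = 0 := by
    ext q
    simp [f, g]
  let μ : ∀ (N : Type (max u v)) [AddCommGroup N] [Module A N], S ⊗[A] (S ⊗[A] N) →ₗ[A] S ⊗[A] N := fun N _ _ =>
    (LinearMap.rTensor N (LinearMap.mul' A S)).comp (TensorProduct.assoc A S S N).symm.toLinearMap
  let μ₀ : S ⊗[A] (S ⊗[A] Q) →ₗ[A] S ⊗[A] Q :=
    (LinearMap.rTensor Q (LinearMap.mul' A S)).comp (TensorProduct.assoc A S S Q).symm.toLinearMap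
  have hμ₀ : ∀ (s t : S) (q : Q), μ₀ (s ⊗ₜ (t ⊗ₜ q)) = (s * t) ⊗ₜ q := fun s t q => by simp [μ₀]
  have key : LinearMap.lTensor S f ∘ₗ μ₀ + μ (S ⊗[A] Q) ∘ₗ LinearMap.lTensor S g = LinearMap.id := by
    ext s t q
    simp [f, g, μ, hμ₀, TensorProduct.tmul_sub]
  have hex : Function.Exact f g := by
    refine (Module.FaithfullyFlat.lTensor_exact_iff_exact A S f g).1 fun y => ⟨fun hy => ⟨μ₀ y, ?_⟩, ?_⟩
    · have := congrArg (fun φ => φ y) key
      simpa [hy] using this
    · rintro ⟨z, rfl⟩
      rw [← LinearMap.comp_apply, ← LinearMap.lTensor_comp, hfg, LinearMap.lTensor_zero, LinearMap.zero_apply]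
  exact (hex x).1 (show (1 : S) ⊗ₜ[A] x - LinearMap.lTensor S f x = 0 from sub_eq_zero.2 h)

variable {T : Type u} [CommRing T] [Algebra A T]

/-- Coefficient vectors agreeing on the overlap modulo relations descend modulo relations. -/
theorem exists_descend [Module.FaithfullyFlat A S] {P : Submodule A (I →₀ A)} (x : I →₀ S) (p₁ p₂ : S →ₐ[A] T)
    (ψ : T →ₐ[A] S ⊗[A] S) (h₁ : ψ.comp p₁ = Algebra.TensorProduct.includeLeft)
    (h₂ : ψ.comp p₂ = Algebra.TensorProduct.includeRight)
    (h : Finsupp.mapRange.linearMap p₁.toLinearMap x - Finsupp.mapRange.linearMap p₂.toLinearMap x ∈ extSpan T P) :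
    ∃ b : I →₀ A, x - ext A S b ∈ extSpan S P := by
  let Φ : (I →₀ T) →ₗ[A] S ⊗[A] (S ⊗[A] ((I →₀ A) ⧸ P)) :=
    (TensorProduct.assoc A S S _).toLinearMap ∘ₗ LinearMap.rTensor _ ψ.toLinearMap ∘ₗ (cls T P).restrictScalars A
  have hΦ₁ : ∀ y : I →₀ S, Φ (Finsupp.mapRange.linearMap p₁.toLinearMap y) =
      LinearMap.lTensor S (TensorProduct.mk A S ((I →₀ A) ⧸ P) 1) (cls S P y) := fun y => by
    induction y using Finsupp.induction_linear with
    | zero => simp
    | add y z hy hz => simp only [map_add, hy, hz]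
    | single i s =>
      have : ψ (p₁ s) = s ⊗ₜ 1 := DFunLike.congr_fun h₁ s
      simp [Φ, cls_single, this]
  have hΦ₂ : ∀ y : I →₀ S, Φ (Finsupp.mapRange.linearMap p₂.toLinearMap y) = (1 : S) ⊗ₜ cls S P y := fun y => by
    induction y using Finsupp.induction_linear with
    | zero => simp
    | add y z hy hz => simp only [map_add, TensorProduct.tmul_add, hy, hz]
    | single i s =>
      have : ψ (p₂ s) = 1 ⊗ₜ s := DFunLike.congr_fun h₂ s
      simp [Φ, cls_single, this]
  have h0 : Φ (Finsupp.mapRange.linearMap p₁.toLinearMap x) = Φ (Finsupp.mapRange.linearMap p₂.toLinearMap x) := by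
    rw [← sub_eq_zero, ← map_sub]
    show (TensorProduct.assoc A S S _) (LinearMap.rTensor _ ψ.toLinearMap (cls T P _)) = 0
    rw [cls_eq_zero h, map_zero, map_zero]
  rw [hΦ₁, hΦ₂] at h0
  obtain ⟨q, hq⟩ := exists_eq_one_tmul _ h0.symm
  obtain ⟨b, rfl⟩ := P.mkQ_surjective q
  exact ⟨b, mem_extSpan_iff.2 (by rw [map_sub, sub_eq_zero, ← hq, ← cls_smul_ext, one_smul])⟩

/-- Base change of a finite equalizer of modules along a flat map. -/
theorem bijective_of_equalizer [Module.Flat A S] {K L : Type*} [Finite K] [Finite L] {M₀ : Type v} [AddCommGroup M₀]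
    [Module A M₀] {P : K → Type v} [∀ k, AddCommGroup (P k)] [∀ k, Module A (P k)] {Q : L → Type v}
    [∀ l, AddCommGroup (Q l)] [∀ l, Module A (Q l)] (r : M₀ →ₗ[A] Π k, P k) (d : (Π k, P k) →ₗ[A] Π l, Q l)
    (hr : Function.Injective r) (hex : Function.Exact r d)
    {T₀ : Type*} [AddCommGroup T₀] {TP : K → Type*} [∀ k, AddCommGroup (TP k)] {TQ : L → Type*}
    [∀ l, AddCommGroup (TQ l)] (θ : S ⊗[A] M₀ →+ T₀) (θP : ∀ k, S ⊗[A] P k →+ TP k) (θQ : ∀ l, S ⊗[A] Q l →+ TQ l)
    (hP : ∀ k, Function.Bijective (θP k)) (hQ : ∀ l, Function.Bijective (θQ l))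
    (r' : T₀ →+ Π k, TP k) (d' : (Π k, TP k) →+ Π l, TQ l) (hr' : Function.Injective r')
    (hd' : ∀ t, d' (r' t) = 0)
    (hθr : ∀ s m k, r' (θ (s ⊗ₜ m)) k = θP k (s ⊗ₜ r m k))
    (hθd : ∀ s (p : Π k, P k) (y : Π k, TP k), (∀ k, y k = θP k (s ⊗ₜ p k)) →
      ∀ l, d' y l = θQ l (s ⊗ₜ d p l)) : Function.Bijective θ := by
  classical
  cases nonempty_fintype K
  cases nonempty_fintype L
  let eP := TensorProduct.piRight A A S P
  let eQ := TensorProduct.piRight A A S Q
  let F : S ⊗[A] (Π k, P k) →+ Π k, TP k := AddMonoidHom.mk'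
    (fun x k => θP k (eP x k)) fun x y => by funext k; simp [map_add]
  have hF : ∀ (s : S) (p : Π k, P k) (k : K), F (s ⊗ₜ p) k = θP k (s ⊗ₜ p k) := fun s p k => by simp [F, eP]
  have hFbij : Function.Bijective F := by
    refine ⟨fun x y h => eP.injective (funext fun k => (hP k).1 (congrFun h k)), fun y => ?_⟩
    choose z hz using fun k => (hP k).2 (y k)
    exact ⟨eP.symm z, funext fun k => by simp [F, hz]⟩
  let G : S ⊗[A] (Π l, Q l) →+ Π l, TQ l := AddMonoidHom.mk'
    (fun x l => θQ l (eQ x l)) fun x y => by funext k; simp [map_add]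
  have hG : Function.Injective G := fun x y h => eQ.injective (funext fun l => (hQ l).1 (congrFun h l))
  have h₁ : ∀ x, r' (θ x) = F (LinearMap.lTensor S r x) := fun x => by
    induction x using TensorProduct.induction_on with
    | zero => simp
    | tmul s m =>
      funext k
      rw [hθr, LinearMap.lTensor_tmul, hF]
    | add x y hx hy => simp only [map_add, hx, hy]
  have h₂ : ∀ x, d' (F x) = G (LinearMap.lTensor S d x) := fun x => by
    induction x using TensorProduct.induction_on with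
    | zero => simp
    | tmul s p =>
      funext l
      rw [hθd s p _ (hF s p) l]
      simp [G, eQ]
    | add x y hx hy => simp only [map_add, hx, hy]
  have hinj : Function.Injective (LinearMap.lTensor S r) := Module.Flat.lTensor_preserves_injective_linearMap r hr
  refine ⟨fun x y h => hinj (hFbij.1 (by rw [← h₁, ← h₁, h])), fun t => ?_⟩
  obtain ⟨x, hx⟩ := hFbij.2 (r' t)
  obtain ⟨z, rfl⟩ := (Module.Flat.lTensor_exact S hex x).1 (hG (by rw [← h₂, hx, hd', map_zero]))
  exact ⟨z, hr' (by rw [h₁, hx])⟩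

section Pushout

variable {A' B' : Type u} [CommRing A'] [CommRing B'] [Algebra A A'] [Algebra A' B'] [Algebra S B'] [Algebra A B']
  [IsScalarTower A A' B'] [IsScalarTower A S B'] [Algebra.IsPushout A S A' B']
  {M : Type v} [AddCommGroup M] [Module A M] [Module A' M] [IsScalarTower A A' M]

/-- Cancelling a base change. -/
theorem bijective_cancel {T₀ : Type*} [AddCommGroup T₀] (θ : S ⊗[A] M →+ T₀) (θ' : B' ⊗[A'] M →+ T₀)
    (h' : Function.Bijective θ') (h : ∀ s m, θ (s ⊗ₜ m) = θ' (algebraMap S B' s ⊗ₜ m)) : Function.Bijective θ := by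
  let e := Algebra.IsPushout.cancelBaseChange A S A' B' M
  have : ∀ x, θ x = θ' (e.symm x) := fun x => by
    induction x using TensorProduct.induction_on with
    | zero => simp
    | tmul s m => rw [h, Algebra.IsPushout.cancelBaseChange_symm_tmul]
    | add x y hx hy => simp only [map_add, hx, hy]
  rw [show (θ : S ⊗[A] M → T₀) = θ' ∘ e.symm from funext this]
  exact h'.comp e.symm.bijective

end Pushout

end Groth.L09.ModEt
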