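import Groth.Agent.L09.ModEt.Colim

/-!
# Kernels and extensions of quasi-coherent modules on the small etale site
-/

universe u v

open CategoryTheory CategoryTheory.Limits AlgebraicGeometry Opposite AlgSp TensorProduct

set_option autoImplicit false
set_option linter.style.haveILetI false
set_option backward.isDefEq.respectTransparency false
set_option backward.isDefEq.respectTransparency.types false

noncomputable section

namespace Groth.L09.ModEt

variable {S : Scheme.{u}} {X : Sp S}

theorem isQuasicoherent_of_bc_affine (M : ModEt X)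
    (h : ∀ ⦃E E' : EtOver X⦄ [IsAffine E.obj.left.left] [IsAffine E'.obj.left.left] (g : E' ⟶ E), BC M g) :
    M.IsQuasicoherent := by
  haveI : Presheaf.IsLocallyInjective (etTop X) ((PresheafOfModules.toPresheaf _).map (𝟙 M.val)) := by
    rw [CategoryTheory.Functor.map_id]; infer_instance
  haveI : Presheaf.IsLocallySurjective (etTop X) ((PresheafOfModules.toPresheaf _).map (𝟙 M.val)) := by
    rw [CategoryTheory.Functor.map_id]; infer_instance
  exact isQuasicoherent_of_bcp (𝟙 M.val) h

section Maps

variable {M N : ModEt X} (f : M ⟶ N)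

/-- A morphism on sections. -/
def sapp (E : EtOver X) : sectModEt M E →ₗ[Γ₀ E] sectModEt N E where
  toFun := app f.val E
  map_add' := map_add _
  map_smul' := papp_smul f.val

theorem sapp_res {E E' : EtOver X} (g : E' ⟶ E) (m : sectModEt M E) :
    sapp f E' (res M g m) = res N g (sapp f E m) := papp_pres f.val g m

theorem θ_sapp {E E' : EtOver X} (g : E' ⟶ E) :
    letI := (pb g).toAlgebra
    ∀ x, sapp f E' (θ M g x) = θ N g (LinearMap.lTensor (Γ₀ E') (sapp f E) x) := by
  letI := (pb g).toAlgebra
  intro x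
  induction x using TensorProduct.induction_on with
  | zero => simp
  | tmul b n =>
    show sapp f E' (b • res M g n) = b • res N g (sapp f E n)
    rw [map_smul, sapp_res]
  | add x y hx hy => simp only [map_add, hx, hy]

end Maps

variable {C : ShortComplex (ModEt X)}

theorem sapp_g_f (E : EtOver X) (x : sectModEt C.X₁ E) : sapp C.g E (sapp C.f E x) = 0 :=
  ConcreteCategory.congr_hom ((SheafOfModules.evaluation (OEtRing X) (op E)).congr_map C.zero) x

theorem exact_sapp (hC : C.Exact) (hf : Mono C.f) (E : EtOver X) :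
    Function.Injective (sapp C.f E) ∧ Function.Exact (sapp C.f E) (sapp C.g E) := by
  haveI := hf
  let F := SheafOfModules.evaluation.{u + 1} (OEtRing X) (op E)
  haveI : F.PreservesZeroMorphisms := ⟨fun _ _ => rfl⟩
  refine ⟨(ModuleCat.mono_iff_injective (F.map C.f)).1 inferInstance, ?_⟩
  exact (ShortComplex.ShortExact.moduleCat_exact_iff_function_exact (C.map F)).1
    (hC.map_of_mono_of_preservesKernel F hf (by infer_instance))

theorem isQuasicoherent_left (hC : C.Exact) (hf : Mono C.f) (h₂ : C.X₂.IsQuasicoherent)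
    (h₃ : C.X₃.IsQuasicoherent) : C.X₁.IsQuasicoherent := by
  haveI := h₂
  haveI := h₃
  refine isQuasicoherent_of_bc_affine _ fun E E' _ _ g => ?_
  letI := (pb g).toAlgebra
  haveI : Module.Flat (Γ₀ E) (Γ₀ E') := flat_pb g
  obtain ⟨hi, he⟩ := exact_sapp hC hf E
  obtain ⟨hi', he'⟩ := exact_sapp hC hf E'
  have b₂ := bc_of_isQuasicoherent C.X₂ g
  have b₃ := bc_of_isQuasicoherent C.X₃ g
  refine ⟨fun x y h => Module.Flat.lTensor_preserves_injective_linearMap _ hi (b₂.1 ?_), fun t => ?_⟩
  · rw [← θ_sapp, ← θ_sapp, h]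
  · obtain ⟨x, hx⟩ := b₂.2 (sapp C.f E' t)
    have hx' : LinearMap.lTensor (Γ₀ E') (sapp C.g E) x = 0 := b₃.1 (by rw [← θ_sapp, hx, sapp_g_f, map_zero])
    obtain ⟨z, rfl⟩ := (Module.Flat.lTensor_exact (Γ₀ E') he x).1 hx'
    exact ⟨z, hi' (by rw [θ_sapp, hx])⟩

end Groth.L09.ModEt
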