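import Groth.Agent.L09.ModEt.Basic
import Groth.Agent.L09.ModEt.Algebra
import Mathlib.AlgebraicGeometry.Morphisms.Flat

/-!
# Base change of sections of locally presented modules
-/

universe u

open CategoryTheory CategoryTheory.Limits AlgebraicGeometry Opposite AlgSp TensorProduct

set_option autoImplicit false
set_option linter.style.haveILetI false
set_option backward.isDefEq.respectTransparency false
set_option backward.isDefEq.respectTransparency.types false

noncomputable section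

namespace Groth.L09.ModEt

variable {S : Scheme.{u}} {X : Sp S} (M : ModEt X)

/-- The base change map on sections. -/
def θ {E E' : EtOver X} (g : E' ⟶ E) :
    letI := (pb g).toAlgebra
    Γ₀ E' ⊗[Γ₀ E] sectModEt M E →+ sectModEt M E' :=
  letI := (pb g).toAlgebra
  TensorProduct.liftAddHom
    (AddMonoidHom.mk' (fun b => ((DistribSMul.toAddMonoidHom (sectModEt M E') b).comp (res M g)))
      fun b b' => AddMonoidHom.ext fun m => add_smul b b' (res M g m))
    fun a b m => by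
      show (pb g a * b) • res M g m = b • res M g (a • m)
      rw [res_smul, smul_smul, mul_comm]

theorem θ_tmul {E E' : EtOver X} (g : E' ⟶ E) (b : Γ₀ E') (m : sectModEt M E) :
    letI := (pb g).toAlgebra
    θ M g (b ⊗ₜ m) = b • res M g m := rfl

/-- Sections of `M` over the target base change to sections over the source. -/
def BC {E E' : EtOver X} (g : E' ⟶ E) : Prop := Function.Bijective (θ M g)

/-- Pullback of coefficient vectors. -/
def push {I : Type (u + 1)} {E E' : EtOver X} (g : E' ⟶ E) : (I →₀ Γ₀ E) →+ (I →₀ Γ₀ E') :=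
  Finsupp.mapRange.addMonoidHom (pb g).toAddMonoidHom

@[simp]
theorem push_apply {I : Type (u + 1)} {E E' : EtOver X} (g : E' ⟶ E) (b : I →₀ Γ₀ E) (i : I) :
    push g b i = pb g (b i) := rfl

theorem push_comp {I : Type (u + 1)} {E E' E'' : EtOver X} (h : E'' ⟶ E') (g : E' ⟶ E) (b : I →₀ Γ₀ E) :
    push (h ≫ g) b = push h (push g b) := Finsupp.ext fun _ => rfl

theorem push_id {I : Type (u + 1)} {E : EtOver X} (b : I →₀ Γ₀ E) : push (𝟙 E) b = b :=
  Finsupp.ext fun _ => pb_id _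

theorem push_congr {I : Type (u + 1)} {E₀ E₁ E₂ E : EtOver X} {a : E₀ ⟶ E₁} {b : E₁ ⟶ E} {c : E₀ ⟶ E₂} {d : E₂ ⟶ E}
    (h : a ≫ b = c ≫ d) (x : I →₀ Γ₀ E) : push a (push b x) = push c (push d x) := by
  rw [← push_comp, ← push_comp, h]

theorem push_smul {I : Type (u + 1)} {E E' : EtOver X} (g : E' ⟶ E) (r : Γ₀ E) (b : I →₀ Γ₀ E) :
    push g (r • b) = pb g r • push g b := Finsupp.ext fun _ => map_mul (pb g) _ _

theorem eq_fun_of_cover {E : EtOver X} {ι : Type*} {V : ι → EtOver X} {c : ∀ i, V i ⟶ E} (hc : IsCover c)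
    {a b : Γ₀ E} (h : ∀ i, pb (c i) a = pb (c i) b) : a = b :=
  congrArg ULift.down (eq_of_cover (unitModEt X) hc (s := (ULift.up a : ULift Γ(E.obj.left.left, ⊤)))
    (t := (ULift.up b : ULift Γ(E.obj.left.left, ⊤))) fun i => congrArg ULift.up (h i))

theorem eq_vec_of_cover {I : Type (u + 1)} {E : EtOver X} {ι : Type*} {V : ι → EtOver X} {c : ∀ i, V i ⟶ E}
    (hc : IsCover c) {a b : I →₀ Γ₀ E} (h : ∀ i, push (c i) a = push (c i) b) : a = b :=
  Finsupp.ext fun j => eq_fun_of_cover hc fun i => DFunLike.congr_fun (h i) j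

section Sigma

variable {E : EtOver X} {ι : Type u} (V : ι → EtOver X) (g : ∀ i, V i ⟶ E)

theorem exists_glue_fun (t : ∀ i, Γ₀ (V i)) : ∃ f : Γ₀ (sigmaObj V g), ∀ i, pb (sigmaι V g i) f = t i := by
  obtain ⟨f, hf⟩ := exists_glue_sigma V g (unitModEt X) fun i => (ULift.up (t i) : ULift Γ((V i).obj.left.left, ⊤))
  exact ⟨(f : ULift Γ((sigmaObj V g).obj.left.left, ⊤)).down, fun i => congrArg ULift.down (hf i)⟩

theorem exists_glue_vec [Finite ι] {I : Type (u + 1)} (t : ∀ i, I →₀ Γ₀ (V i)) :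
    ∃ f : I →₀ Γ₀ (sigmaObj V g), ∀ i, push (sigmaι V g i) f = t i := by
  classical
  cases nonempty_fintype ι
  choose f hf using fun j => exists_glue_fun V g fun i => t i j
  refine ⟨Finsupp.onFinset (Finset.univ.biUnion fun i => (t i).support) f fun j hj => ?_,
    fun i => Finsupp.ext fun j => hf j i⟩
  by_contra h
  simp only [Finset.mem_biUnion, Finset.mem_univ, true_and, Finsupp.mem_support_iff, not_exists, not_not] at h
  exact hj (eq_fun_of_cover (isCover_sigmaι V g) fun i => by rw [hf, h i, map_zero])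

end Sigma

/-- Generators and relations of `M` over an object, locally. -/
structure Data (V : EtOver X) : Type (u + 2) where
  I : Type (u + 1)
  J : Type (u + 1)
  s : I → sectModEt M V
  c : J → (I →₀ Γ₀ V)
  rel : ∀ j, Finsupp.linearCombination (Γ₀ V) s (c j) = 0
  gen : ∀ (W : EtOver X) (a : W ⟶ V) (m : sectModEt M W), ∃ R ∈ etTop X W, ∀ ⦃W' : EtOver X⦄ (e : W' ⟶ W), R e →
    res M e m ∈ Submodule.span (Γ₀ W') (Set.range fun i => res M (e ≫ a) (s i))
  ker : ∀ (W : EtOver X) (a : W ⟶ V) (b : I →₀ Γ₀ W),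
    Finsupp.linearCombination (Γ₀ W) (fun i => res M a (s i)) b = 0 →
      ∃ R ∈ etTop X W, ∀ ⦃W' : EtOver X⦄ (e : W' ⟶ W), R e →
        push e b ∈ Submodule.span (Γ₀ W') (Set.range fun j => push (e ≫ a) (c j))

namespace Data

variable {M} {V : EtOver X} (D : Data M V)

/-- Combinations of the restricted generators. -/
def φ {W : EtOver X} (a : W ⟶ V) : (D.I →₀ Γ₀ W) →ₗ[Γ₀ W] sectModEt M W :=
  Finsupp.linearCombination (Γ₀ W) fun i => res M a (D.s i)

/-- The restricted relations. -/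
def P {W : EtOver X} (a : W ⟶ V) : Submodule (Γ₀ W) (D.I →₀ Γ₀ W) :=
  Submodule.span (Γ₀ W) (Set.range fun j => push a (D.c j))

theorem res_φ {W W' : EtOver X} (e : W' ⟶ W) (a : W ⟶ V) (b : D.I →₀ Γ₀ W) :
    res M e (D.φ a b) = D.φ (e ≫ a) (push e b) := by
  induction b using Finsupp.induction_linear with
  | zero => simp [φ]
  | add x y hx hy => simp only [map_add, hx, hy]
  | single i r =>
    rw [show push e (Finsupp.single i r) = Finsupp.single i (pb e r) by simp [push]]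
    simp [φ, res_comp]

theorem φ_eq_zero {W : EtOver X} (a : W ⟶ V) {b : D.I →₀ Γ₀ W} (h : b ∈ D.P a) : D.φ a b = 0 := by
  refine (Submodule.span_le.2 ?_ : D.P a ≤ LinearMap.ker (D.φ a)) h
  rintro _ ⟨j, rfl⟩
  have h₁ := D.res_φ a (𝟙 V) (D.c j)
  rw [Category.comp_id] at h₁
  show D.φ a _ = 0
  rw [← h₁, show D.φ (𝟙 V) (D.c j) = 0 by simpa [φ] using D.rel j, map_zero]

theorem push_mem {W W' : EtOver X} (e : W' ⟶ W) {a : W ⟶ V} {x : D.I →₀ Γ₀ W} (hx : x ∈ D.P a) :
    push e x ∈ D.P (e ≫ a) := by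
  induction hx using Submodule.span_induction with
  | mem y hy => obtain ⟨j, rfl⟩ := hy; exact Submodule.subset_span ⟨j, push_comp e a _⟩
  | zero => rw [map_zero]; exact zero_mem _
  | add x y _ _ hx hy => rw [map_add]; exact add_mem hx hy
  | smul r x _ hx => rw [push_smul]; exact Submodule.smul_mem _ _ hx

theorem mem_extSpan {W W' : EtOver X} (e : W' ⟶ W) {a : W ⟶ V} {a' : W' ⟶ V} (h : e ≫ a = a') (x : D.I →₀ Γ₀ W') :
    letI := (pb e).toAlgebra
    x ∈ extSpan (Γ₀ W') (D.P a) ↔ x ∈ D.P a' := by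
  letI := (pb e).toAlgebra
  subst h
  have he : ∀ y, ext (Γ₀ W) (Γ₀ W') y = push (I := D.I) e y := fun y => Finsupp.ext fun _ => rfl
  constructor
  · intro hx
    refine (Submodule.span_le.2 ?_ : extSpan (Γ₀ W') (D.P a) ≤ D.P (e ≫ a)) hx
    rintro _ ⟨y, hy, rfl⟩
    rw [SetLike.mem_coe, he]
    exact D.push_mem e hy
  · intro hx
    refine (Submodule.span_le.2 ?_ : D.P (e ≫ a) ≤ extSpan (Γ₀ W') (D.P a)) hx
    rintro _ ⟨j, rfl⟩
    exact Submodule.subset_span ⟨push a (D.c j), Submodule.subset_span ⟨j, rfl⟩, (he _).trans (push_comp e a _).symm⟩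

theorem faithfullyFlat_pb {W W' : EtOver X} [IsAffine W.obj.left.left] [IsAffine W'.obj.left.left] (d : W' ⟶ W)
    (hd : Function.Surjective d.hom.left.left) : (pb d).FaithfullyFlat := by
  haveI := EtOver.etale_left d
  exact (Flat.flat_and_surjective_iff_faithfullyFlat_of_isAffine _).1 ⟨inferInstance, ⟨hd⟩⟩

theorem ker_affine {W : EtOver X} [IsAffine W.obj.left.left] (a : W ⟶ V) {b : D.I →₀ Γ₀ W} (hb : D.φ a b = 0) :
    b ∈ D.P a := by
  obtain ⟨R, hR, hker⟩ := D.ker W a b hb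
  obtain ⟨ι, _, Z, g, hZ, hg, hcov⟩ := exists_finite_cover hR
  haveI := hZ
  choose e he using fun i => Finsupp.mem_span_range_iff_exists_finsupp.1 (hker (g i) (hg i))
  obtain ⟨f, hf⟩ := exists_glue_vec Z g e
  let d := sigmaDesc Z g
  have hmem : push d b ∈ D.P (d ≫ a) := by
    have : f.sum (fun j r => r • push (d ≫ a) (D.c j)) = push d b := by
      refine eq_vec_of_cover (isCover_sigmaι Z g) fun i => ?_
      rw [← push_comp, sigmaι_desc, ← he i, ← hf i, map_finsuppSum]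
      simp only [push_smul, ← push_comp, d, sigmaι_desc_assoc]
      refine Eq.symm ((Finsupp.sum_mapRange_index (hf := map_zero _) ?_).trans ?_)
      · exact fun j => zero_smul _ _
      · rfl
    exact Finsupp.mem_span_range_iff_exists_finsupp.2 ⟨f, this⟩
  letI := (pb d).toAlgebra
  haveI : Module.FaithfullyFlat (Γ₀ W) (Γ₀ (sigmaObj Z g)) := faithfullyFlat_pb d (surjective_sigmaDesc Z g hcov)
  refine mem_of_ext_mem (S := Γ₀ (sigmaObj Z g)) ?_
  rw [show ext (Γ₀ W) (Γ₀ (sigmaObj Z g)) b = push (I := D.I) d b from Finsupp.ext fun _ => rfl]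
  exact (D.mem_extSpan d rfl _).2 hmem

theorem surj_affine {W : EtOver X} [IsAffine W.obj.left.left] (a : W ⟶ V) : Function.Surjective (D.φ a) := by
  intro m
  obtain ⟨R, hR, hgen⟩ := D.gen W a m
  obtain ⟨ι, _, Z, g, hZ, hg, hcov⟩ := exists_finite_cover hR
  haveI := hZ
  choose x hx using fun i => Finsupp.mem_span_range_iff_exists_finsupp.1 (hgen (g i) (hg i))
  obtain ⟨f, hf⟩ := exists_glue_vec Z g x
  let D₁ := sigmaObj Z g
  let d : D₁ ⟶ W := sigmaDesc Z g
  have hd : Function.Surjective d.hom.left.left := surjective_sigmaDesc Z g hcov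
  have hφ : D.φ (d ≫ a) f = res M d m := eq_of_sigma Z g M fun i => by
    rw [res_φ, hf i, ← res_comp, sigmaι_desc, ← hx i, sigmaι_desc_assoc]
    rfl
  let D₂ := EtOver.pullbackObj d d
  let q₁ : D₂ ⟶ D₁ := EtOver.pullbackFst d d
  let q₂ : D₂ ⟶ D₁ := EtOver.pullbackSnd d d
  have hq : q₁ ≫ d = q₂ ≫ d := EtOver.pullback_condition d d
  haveI : IsAffine D₂.obj.left.left := isAffine_pullback d d
  have hmem : push q₁ f - push q₂ f ∈ D.P (q₁ ≫ d ≫ a) := by
    refine D.ker_affine _ ?_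
    rw [map_sub, sub_eq_zero, ← res_φ, reassoc_of% hq, ← res_φ, hφ, ← res_comp, ← res_comp, hq]
  letI := (pb d).toAlgebra
  letI : Algebra (Γ₀ W) (Γ₀ D₂) := (pb (q₁ ≫ d)).toAlgebra
  haveI : Module.FaithfullyFlat (Γ₀ W) (Γ₀ D₁) := faithfullyFlat_pb d hd
  let p₁ : Γ₀ D₁ →ₐ[Γ₀ W] Γ₀ D₂ := ⟨pb q₁, fun r => rfl⟩
  let p₂ : Γ₀ D₁ →ₐ[Γ₀ W] Γ₀ D₂ := ⟨pb q₂, fun r => by
    show pb (q₂ ≫ d) r = pb (q₁ ≫ d) r
    rw [hq]⟩
  have hp := isPushout_pb d d
  let ψ₀ : Γ₀ D₂ ⟶ CommRingCat.of (Γ₀ D₁ ⊗[Γ₀ W] Γ₀ D₁) :=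
    hp.desc (CommRingCat.ofHom Algebra.TensorProduct.includeLeftRingHom)
      (CommRingCat.ofHom Algebra.TensorProduct.includeRight.toRingHom)
      (CommRingCat.hom_ext (RingHom.ext fun r => by
        show (pb d r) ⊗ₜ (1 : Γ₀ D₁) = (1 : Γ₀ D₁) ⊗ₜ (pb d r)
        exact (Algebra.TensorProduct.algebraMap_apply r).symm.trans (Algebra.TensorProduct.algebraMap_apply' r)))
  have e₁ : q₁.hom.left.left.appTop ≫ ψ₀ = CommRingCat.ofHom Algebra.TensorProduct.includeLeftRingHom :=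
    hp.inl_desc _ _ _
  have e₂ : q₂.hom.left.left.appTop ≫ ψ₀ = CommRingCat.ofHom Algebra.TensorProduct.includeRight.toRingHom :=
    hp.inr_desc _ _ _
  have h₁ : ∀ s, ψ₀.hom (pb q₁ s) = s ⊗ₜ 1 := fun s => DFunLike.congr_fun (congrArg CommRingCat.Hom.hom e₁) s
  have h₂ : ∀ s, ψ₀.hom (pb q₂ s) = 1 ⊗ₜ s := fun s => DFunLike.congr_fun (congrArg CommRingCat.Hom.hom e₂) s
  let ψ : Γ₀ D₂ →ₐ[Γ₀ W] Γ₀ D₁ ⊗[Γ₀ W] Γ₀ D₁ := ⟨ψ₀.hom, fun r => (h₁ (pb d r)).trans
    (Algebra.TensorProduct.algebraMap_apply r).symm⟩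
  obtain ⟨b, hb⟩ := exists_descend (P := D.P a) f p₁ p₂ ψ (AlgHom.ext h₁) (AlgHom.ext h₂)
    ((D.mem_extSpan (q₁ ≫ d) (Category.assoc _ _ _) _).2 hmem)
  refine ⟨b, eq_of_cover M (V := fun _ : Unit => D₁) (c := fun _ => d) (fun y => ⟨(), hd y⟩) fun _ => ?_⟩
  have h0 := D.φ_eq_zero _ ((D.mem_extSpan d rfl _).1 hb)
  rw [map_sub, sub_eq_zero, show ext (Γ₀ W) (Γ₀ D₁) b = push (I := D.I) d b from Finsupp.ext fun _ => rfl] at h0
  rw [res_φ, ← h0, hφ]

/-- Restriction of local generators and relations. -/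
def restrict {V' : EtOver X} (a : V' ⟶ V) : Data M V' where
  I := D.I
  J := D.J
  s i := res M a (D.s i)
  c j := push a (D.c j)
  rel j := D.φ_eq_zero a (Submodule.subset_span ⟨j, rfl⟩)
  gen W b m := by
    obtain ⟨R, hR, h⟩ := D.gen W (b ≫ a) m
    refine ⟨R, hR, fun W' e he => ?_⟩
    simpa only [← res_comp, Category.assoc] using h e he
  ker W b x hx := by
    obtain ⟨R, hR, h⟩ := D.ker W (b ≫ a) x (by simpa only [← res_comp] using hx)
    refine ⟨R, hR, fun W' e he => ?_⟩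
    simpa only [← push_comp, Category.assoc] using h e he

include D in
theorem bc_to [IsAffine V.obj.left.left] {W : EtOver X} [IsAffine W.obj.left.left] (g : W ⟶ V) : BC M g := by
  letI := (pb g).toAlgebra
  let σ : (D.I →₀ Γ₀ W) →ₗ[Γ₀ W] Γ₀ W ⊗[Γ₀ V] sectModEt M V :=
    Finsupp.linearCombination (Γ₀ W) fun i => (1 : Γ₀ W) ⊗ₜ D.s i
  have hσ : ∀ x, θ M g (σ x) = D.φ g x := fun x => by
    induction x using Finsupp.induction_linear with
    | zero => simp [φ]
    | add x y hx hy => simp only [map_add, hx, hy]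
    | single i r => simp [σ, φ, TensorProduct.smul_tmul', θ_tmul]
  have hσpush : ∀ c, σ (push g c) = (1 : Γ₀ W) ⊗ₜ D.φ (𝟙 V) c := fun c => by
    induction c using Finsupp.induction_linear with
    | zero => simp [φ]
    | add x y hx hy => simp only [map_add, hx, hy, TensorProduct.tmul_add]
    | single i r =>
      rw [show push g (Finsupp.single i r) = Finsupp.single i (pb g r) by simp [push]]
      simp only [σ, φ, Finsupp.linearCombination_single, res_id]
      rw [TensorProduct.smul_tmul', smul_eq_mul, mul_one,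
        show pb g r = r • (1 : Γ₀ W) from Algebra.algebraMap_eq_smul_one r, TensorProduct.smul_tmul]
  have hσs : Function.Surjective σ := fun t => by
    induction t using TensorProduct.induction_on with
    | zero => exact ⟨0, map_zero _⟩
    | tmul b m =>
      obtain ⟨c, rfl⟩ := D.surj_affine (𝟙 V) m
      exact ⟨b • push g c, by rw [map_smul, hσpush, TensorProduct.smul_tmul', smul_eq_mul, mul_one]⟩
    | add t t' h h' =>
      obtain ⟨x, rfl⟩ := h
      obtain ⟨x', rfl⟩ := h'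
      exact ⟨x + x', map_add _ _ _⟩
  refine ⟨(injective_iff_map_eq_zero _).2 fun t ht => ?_, fun m => ?_⟩
  · obtain ⟨x, rfl⟩ := hσs t
    rw [hσ] at ht
    refine (Submodule.span_le.2 ?_ : D.P g ≤ LinearMap.ker σ) (D.ker_affine g ht)
    rintro _ ⟨j, rfl⟩
    show σ _ = 0
    rw [hσpush, D.φ_eq_zero (𝟙 V) (Submodule.subset_span ⟨j, push_id _⟩), TensorProduct.tmul_zero]
  · obtain ⟨x, rfl⟩ := D.surj_affine g m
    exact ⟨σ x, hσ x⟩

include D in
theorem bc {W W' : EtOver X} [IsAffine W.obj.left.left] [IsAffine W'.obj.left.left] (g : W' ⟶ W) (a : W ⟶ V) :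
    BC M g :=
  (D.restrict a).bc_to g

end Data

end Groth.L09.ModEt
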