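import Groth.Agent.L09.ModEt.Generators
import Groth.Agent.L09.ModEt.Pres

/-!
# Local presentations give local generators and relations
-/

universe u

open CategoryTheory CategoryTheory.Limits AlgebraicGeometry Opposite AlgSp TensorProduct

set_option autoImplicit false
set_option linter.style.haveILetI false
set_option backward.isDefEq.respectTransparency false
set_option backward.isDefEq.respectTransparency.types false

noncomputable section

namespace Groth.L09.ModEt

variable {S : Scheme.{u}} {X : Sp S} {E : EtOver X}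

/-- The structure sheaf on the objects over `E`. -/
abbrev OOn (E : EtOver X) : Sheaf ((etTop X).over E) RingCat.{u + 1} := (OEtRing X).over E

/-- Functions act on sections of modules over `E`. -/
instance overModule (N : SheafOfModules.{u + 1} (OOn E)) (O : Over E) : Module (Γ₀ O.left) (N.val.obj (op O)) :=
  Module.compHom _ ((upΓ O.left : Γ₀ O.left →+* (OOn E).obj.obj (op O)))

/-- Restriction of sections over `E`. -/
def resN (N : SheafOfModules.{u + 1} (OOn E)) {O O' : Over E} (φ : O' ⟶ O) : N.val.obj (op O) →+ N.val.obj (op O') :=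
  (N.val.presheaf.map φ.op).hom

theorem resN_sections (N : SheafOfModules.{u + 1} (OOn E)) {O O' : Over E} (φ : O' ⟶ O) (z : N.sections) :
    resN N φ (z.eval (op O)) = z.eval (op O') := z.2 φ.op

theorem resN_nat {N N' : SheafOfModules.{u + 1} (OOn E)} (f : N ⟶ N') {O O' : Over E} (φ : O' ⟶ O)
    (m : N.val.obj (op O)) : f.val.app (op O') (resN N φ m) = resN N' φ (f.val.app (op O) m) :=
  PresheafOfModules.naturality_apply f.val φ.op m

/-- A value of the structure sheaf as a function. -/
abbrev dn {O : Over E} (r : (OOn E).obj.obj (op O)) : Γ₀ O.left :=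
  (r : ULift.{u + 1} Γ(O.left.obj.left.left, ⊤)).down

/-- A coefficient vector in the structure sheaf. -/
abbrev upV {I : Type (u + 1)} {O : Over E} (b : I →₀ Γ₀ O.left) : I →₀ (OOn E).obj.obj (op O) :=
  Finsupp.mapRange (fun x => (upΓ O.left x : (OOn E).obj.obj (op O))) (map_zero (upΓ O.left)) b

theorem linearCombination_up (N : SheafOfModules.{u + 1} (OOn E)) {O : Over E} {I : Type (u + 1)}
    (v : I → N.val.obj (op O)) (b : I →₀ Γ₀ O.left) :
    Finsupp.linearCombination ((OOn E).obj.obj (op O)) v (upV b) = Finsupp.linearCombination (Γ₀ O.left) v b := by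
  induction b using Finsupp.induction_linear with
  | zero =>
    rw [upV, Finsupp.mapRange_zero, map_zero, map_zero]
  | add x y hx hy =>
    rw [map_add, ← hx, ← hy, ← map_add]
    congr 1
    ext i
    rfl
  | single i r =>
    rw [upV, Finsupp.mapRange_single, Finsupp.linearCombination_single, Finsupp.linearCombination_single]
    rfl

theorem mem_span_dn (N : SheafOfModules.{u + 1} (OOn E)) {O : Over E} {I : Type (u + 1)} (v : I → N.val.obj (op O))
    {m : N.val.obj (op O)} (h : m ∈ Submodule.span ((OOn E).obj.obj (op O)) (Set.range v)) :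
    m ∈ Submodule.span (Γ₀ O.left) (Set.range v) := by
  induction h using Submodule.span_induction with
  | mem y hy => exact Submodule.subset_span hy
  | zero => exact zero_mem _
  | add x y _ _ hx hy => exact add_mem hx hy
  | smul r x _ hx => exact Submodule.smul_mem _ (dn r) hx

theorem exists_span (N : SheafOfModules.{u + 1} (OOn E)) (σ : N.GeneratingSections) (O : Over E)
    (m : N.val.obj (op O)) :
    ∃ T ∈ etTop X O.left, ∀ ⦃W' : EtOver X⦄ (e : W' ⟶ O.left), T e → ∀ (u : W' ⟶ E) (w : e ≫ O.hom = u),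
      resN N (Over.homMk e w : Over.mk u ⟶ O) m ∈
        Submodule.span (Γ₀ (Over.mk u).left) (Set.range fun i => (σ.s i).eval (op (Over.mk u))) := by
  obtain ⟨T, hT, h⟩ := ModGen.exists_cover_mem_span σ O m
  refine ⟨Sieve.overEquiv _ T, (GrothendieckTopology.mem_over_iff _ _).1 hT, fun W' e he u w => ?_⟩
  subst w
  exact mem_span_dn N (O := Over.mk (e ≫ O.hom)) _ (h _ ((Sieve.overEquiv_iff (S := T) e).1 he))


theorem exists_comb (N : SheafOfModules.{u + 1} (OOn E)) (σ : N.GeneratingSections) (O : Over E)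
    (m : N.val.obj (op O)) :
    ∃ T ∈ etTop X O.left, ∀ ⦃W' : EtOver X⦄ (e : W' ⟶ O.left), T e → ∀ (u : W' ⟶ E) (w : e ≫ O.hom = u),
      ∃ d : σ.I →₀ Γ₀ (Over.mk u).left, (d.sum fun i r => r • (σ.s i).eval (op (Over.mk u))) =
        resN N (Over.homMk e w : Over.mk u ⟶ O) m := by
  obtain ⟨T, hT, h⟩ := exists_span N σ O m
  exact ⟨T, hT, fun W' e he u w => Finsupp.mem_span_range_iff_exists_finsupp.1 (h e he u w)⟩

theorem proj_comb {I : Type (u + 1)} (i : I) (O : Over E) (b : I →₀ Γ₀ O.left) :
    dn ((ModGen.proj (R := OOn E) i).val.app (op O) (Finsupp.linearCombination (Γ₀ O.left)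
      (fun j => (SheafOfModules.freeSection (R := OOn E) j).eval (op O)) b)) = b i := by
  rw [← linearCombination_up, ModGen.proj_linearCombination]
  rfl

theorem π_comb {N : SheafOfModules.{u + 1} (OOn E)} (σ : N.GeneratingSections) (O : Over E) (b : σ.I →₀ Γ₀ O.left) :
    σ.π.val.app (op O) (Finsupp.linearCombination (Γ₀ O.left)
      (fun j => (SheafOfModules.freeSection (R := OOn E) j).eval (op O)) b) =
      Finsupp.linearCombination (Γ₀ O.left) (fun j => (σ.s j).eval (op O)) b := by
  rw [← linearCombination_up, ← linearCombination_up, ModGen.π_linearCombination]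

/-- The coefficients of a section of a free module. -/
def coef {I : Type (u + 1)} (i : I) (O : Over E) :
    (SheafOfModules.free (R := OOn E) I).val.obj (op O) →ₗ[Γ₀ O.left] Γ₀ O.left where
  toFun t := dn ((ModGen.proj i).val.app (op O) t : (OOn E).obj.obj (op O))
  map_add' t t' := congrArg dn (map_add ((ModGen.proj i).val.app (op O)).hom t t')
  map_smul' r t :=
    congrArg dn (map_smul ((ModGen.proj i).val.app (op O)).hom (upΓ O.left r : (OOn E).obj.obj (op O)) t)

theorem coef_comb {I : Type (u + 1)} (i : I) (O : Over E) (b : I →₀ Γ₀ O.left) :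
    coef i O (Finsupp.linearCombination (Γ₀ O.left)
      (fun j => (SheafOfModules.freeSection (R := OOn E) j).eval (op O)) b) = b i := proj_comb i O b

theorem coef_res {I : Type (u + 1)} (i : I) {O O' : Over E} (φ : O' ⟶ O)
    (t : (SheafOfModules.free (R := OOn E) I).val.obj (op O)) :
    coef i O' (resN _ φ t) = pb φ.left (coef i O t) :=
  congrArg dn (resN_nat (ModGen.proj i) φ t)

theorem app_smul {N N' : SheafOfModules.{u + 1} (OOn E)} (f : N ⟶ N') (O : Over E) (r : Γ₀ O.left)
    (t : N.val.obj (op O)) : f.val.app (op O) (r • t) = r • f.val.app (op O) t :=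
  map_smul (f.val.app (op O)).hom _ t

/-- The tautological generators of a free module. -/
def freeGen (I : Type (u + 1)) : (SheafOfModules.free (R := OOn E) I).GeneratingSections where
  I := I
  s := SheafOfModules.freeSection
  epi := by
    rw [show (SheafOfModules.free (R := OOn E) I).freeHomEquiv.symm SheafOfModules.freeSection = 𝟙 _
      from Equiv.symm_apply_apply _ _]
    infer_instance

theorem free_local {I : Type (u + 1)} (z : (SheafOfModules.free (R := OOn E) I).sections) (O : Over E) :
    ∃ T ∈ etTop X O.left, ∀ ⦃W' : EtOver X⦄ (e : W' ⟶ O.left), T e → ∀ (u : W' ⟶ E) (_ : e ≫ O.hom = u),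
      ∃ y : I →₀ Γ₀ (Over.mk u).left, Finsupp.linearCombination (Γ₀ (Over.mk u).left)
        (fun i => (SheafOfModules.freeSection (R := OOn E) i).eval (op (Over.mk u))) y = z.eval (op (Over.mk u)) := by
  obtain ⟨T, hT, h⟩ := exists_span _ (freeGen I) O (z.eval (op O))
  refine ⟨T, hT, fun W' e he u w => ?_⟩
  obtain ⟨y, hy⟩ := Finsupp.mem_span_range_iff_exists_finsupp.1 (h e he u w)
  exact ⟨y, ((Finsupp.linearCombination_apply _ _).trans hy).trans (resN_sections _ _ z)⟩

theorem ker_local {I : Type (u + 1)} {N : SheafOfModules.{u + 1} (OOn E)} {F : SheafOfModules.free (R := OOn E) I ⟶ N}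
    {K : SheafOfModules.{u + 1} (OOn E)} (ι : K ⟶ SheafOfModules.free (R := OOn E) I) (ρ : K.GeneratingSections)
    (hlift : ∀ (O : Over E) (z : (SheafOfModules.free (R := OOn E) I).val.obj (op O)), F.val.app (op O) z = 0 →
      ∃ z', ι.val.app (op O) z' = z) (O : Over E) (b : I →₀ Γ₀ O.left)
    (hb : F.val.app (op O) (Finsupp.linearCombination (Γ₀ O.left)
      (fun j => (SheafOfModules.freeSection (R := OOn E) j).eval (op O)) b) = 0) :
    ∃ T ∈ etTop X O.left, ∀ ⦃W' : EtOver X⦄ (e : W' ⟶ O.left), T e → ∀ (u : W' ⟶ E) (_ : e ≫ O.hom = u),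
      ∃ d : ρ.I →₀ Γ₀ (Over.mk u).left, ∀ i, pb e (b i) = d.sum fun j r => r *
        coef i (Over.mk u) ((SheafOfModules.sectionsMap ι (ρ.s j)).eval (op (Over.mk u))) := by
  obtain ⟨z, hzz⟩ := hlift O _ hb
  obtain ⟨T, hT, hspan⟩ := exists_comb K ρ O z
  refine ⟨T, hT, fun W' e he u w => ?_⟩
  refine Exists.elim (hspan e he u w) fun d hd => ⟨d, fun i => ?_⟩
  let L : K.val.obj (op (Over.mk u)) →+ Γ₀ (Over.mk u).left :=
    AddMonoidHom.mk' (fun t => coef i (Over.mk u) (ι.val.app (op (Over.mk u)) t)) fun t t' => by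
      rw [map_add, map_add]
  have hL : L (resN K (Over.homMk e w : Over.mk u ⟶ O) z) = pb e (b i) := by
    show coef i (Over.mk u) (ι.val.app (op (Over.mk u)) (resN K _ z)) = _
    rw [resN_nat, coef_res, hzz, coef_comb]
    rfl
  rw [← hL, ← hd, map_finsuppSum]
  refine Finset.sum_congr rfl fun j _ => ?_
  show coef i (Over.mk u) (ι.val.app (op (Over.mk u)) (_ • _)) = _
  rw [app_smul, map_smul]
  rfl

/-- A presentation over an object gives generators and relations on every affine object over it. -/
theorem nonempty_data_aux (M : ModEt X) (σ : (M.over E).GeneratingSections) {K : SheafOfModules.{u + 1} (OOn E)}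
    (ι : K ⟶ SheafOfModules.free (R := OOn E) σ.I) (ρ : K.GeneratingSections)
    (hι : ∀ (O : Over E) (z : K.val.obj (op O)), σ.π.val.app (op O) (ι.val.app (op O) z) = 0)
    (hlift : ∀ (O : Over E) (z : (SheafOfModules.free (R := OOn E) σ.I).val.obj (op O)), σ.π.val.app (op O) z = 0 →
      ∃ z', ι.val.app (op O) z' = z)
    {V : EtOver X} [IsAffine V.obj.left.left] (h : V ⟶ E) : Nonempty (Data M V) := by
  classical
  let x : ρ.I → (SheafOfModules.free (R := OOn E) σ.I).sections := fun j =>
    SheafOfModules.sectionsMap ι (ρ.s j)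
  let q : ρ.I → σ.I → (SheafOfModules.unit (OOn E)).sections := fun j i =>
    SheafOfModules.sectionsMap (ModGen.proj i) (x j)
  let ob : ∀ {W : EtOver X}, (W ⟶ V) → Over E := fun a => Over.mk (a ≫ h)
  let s : σ.I → sectModEt M V := fun i => (σ.s i).eval (op (Over.mk h))
  let co : ρ.I → σ.I → Γ₀ V := fun j i => dn (O := Over.mk h) ((q j i).eval (op (Over.mk h)))
  have hsec : ∀ {W : EtOver X} (a : W ⟶ V), (fun i => res M a (s i)) = fun i => (σ.s i).eval (op (ob a)) :=
    fun {W} a => funext fun i => (σ.s i).2 (Over.homMk a rfl : ob a ⟶ Over.mk h).op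
  have hco : ∀ {W : EtOver X} (a : W ⟶ V) (j : ρ.I) (i : σ.I),
      pb a (co j i) = dn ((q j i).eval (op (ob a))) := fun {W} a j i =>
    congrArg dn ((q j i).2 (Over.homMk a rfl : ob a ⟶ Over.mk h).op)
  have hπx : ∀ j (O : Over E), σ.π.val.app (op O) ((x j).eval (op O)) = 0 := fun j O =>
    hι O _
  have hloc : ∀ j : ρ.I, ∃ T ∈ etTop X V, ∀ ⦃W : EtOver X⦄ (a : W ⟶ V), T a →
      ∃ y : σ.I →₀ Γ₀ W, (∀ i, pb a (co j i) = y i) ∧
        Finsupp.linearCombination (Γ₀ W) (fun i => res M a (s i)) y = 0 := by
    intro j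
    obtain ⟨T, hT, hspan⟩ := free_local (x j) (Over.mk h)
    refine ⟨T, hT, fun W a ha => ?_⟩
    obtain ⟨y, hy'⟩ := hspan a ha (a ≫ h) rfl
    refine ⟨y, fun i => ?_, ?_⟩
    · rw [hco]
      exact (congrArg (coef i (ob a)) hy'.symm).trans (coef_comb i (ob a) y)
    · rw [hsec]
      exact (π_comb σ (ob a) y).symm.trans ((congrArg (fun t => σ.π.val.app (op (ob a)) t) hy').trans (hπx j _))
  have hfin : ∀ j : ρ.I, ∃ c : σ.I →₀ Γ₀ V, (∀ i, c i = co j i) ∧ Finsupp.linearCombination (Γ₀ V) s c = 0 := by
    intro j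
    obtain ⟨T, hT, hy⟩ := hloc j
    obtain ⟨ι, _, Z, g, -, hg, hcov⟩ := exists_finite_cover hT
    cases nonempty_fintype ι
    choose y hy₁ hy₂ using fun k => hy (g k) (hg k)
    let c : σ.I →₀ Γ₀ V := Finsupp.onFinset (Finset.univ.biUnion fun k => (y k).support) (fun i => co j i)
      fun i hi => by
        by_contra hni
        simp only [Finset.mem_biUnion, Finset.mem_univ, true_and, Finsupp.mem_support_iff, not_exists, not_not] at hni
        exact hi (eq_fun_of_cover hcov fun k => by rw [hy₁, hni k, map_zero])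
    refine ⟨c, fun i => rfl, eq_of_cover M hcov fun k => ?_⟩
    have hk : push (g k) c = y k := Finsupp.ext fun i => hy₁ k i
    rw [map_zero, ← hy₂ k, ← hk]
    induction c using Finsupp.induction_linear with
    | zero => simp
    | add u v hu hv => simp only [map_add, hu, hv]
    | single i r => simp [push]
  choose c hc hc0 using hfin
  refine ⟨{ I := σ.I, J := ρ.I, s := s, c := c, rel := hc0, gen := fun W a m => ?_, ker := fun W a b hb => ?_ }⟩
  · obtain ⟨T, hT, hspan⟩ := exists_span (M.over E) σ (ob a) m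
    refine ⟨T, hT, fun W' e he => ?_⟩
    rw [hsec]
    exact hspan e he ((e ≫ a) ≫ h) (Category.assoc _ _ _).symm
  · have hz : σ.π.val.app (op (ob a)) (Finsupp.linearCombination (Γ₀ (ob a).left)
        (fun j => (SheafOfModules.freeSection (R := OOn E) j).eval (op (ob a))) b) = 0 := by
      refine (π_comb σ (ob a) b).trans ?_
      rw [hsec] at hb
      exact hb
    obtain ⟨T, hT, hspan⟩ := ker_local ι ρ hlift (ob a) b hz
    refine ⟨T, hT, fun W' e he => ?_⟩
    refine Exists.elim (hspan e he ((e ≫ a) ≫ h) (Category.assoc _ _ _).symm) fun d hd => ?_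
    refine Finsupp.mem_span_range_iff_exists_finsupp.2 ⟨d, Finsupp.ext fun i => ?_⟩
    rw [Finsupp.sum_apply, push_apply]
    refine Eq.trans ?_ (hd i).symm
    refine Finset.sum_congr rfl fun j _ => ?_
    show HMul.hMul (α := Γ₀ W') (β := Γ₀ W') (γ := Γ₀ W') (d j) (pb (e ≫ a) (c j i)) = _
    rw [hc, hco]
    rfl

/-- A quasi-coherent module has local generators and relations on affine objects over its charts. -/
theorem nonempty_data (M : ModEt X) (p : (M.over E).Presentation) {V : EtOver X}
    [IsAffine V.obj.left.left] (h : V ⟶ E) : Nonempty (Data M V) :=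
  nonempty_data_aux M p.generators (kernel.ι p.generators.π) p.relations
    (fun O z => ConcreteCategory.congr_hom
      ((SheafOfModules.evaluation (OOn E) (op O)).congr_map (kernel.condition p.generators.π)) z)
    (fun O z hz => ModGen.exists_kernel_lift p.generators.π z hz) h

end Groth.L09.ModEt
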