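import Groth.Agent.L09.ModEt.Converse
import Groth.Agent.L09.Pull.Tn

/-!
# Modules locally isomorphic to presheaves commuting with affine base change
-/

universe u

open CategoryTheory CategoryTheory.Limits AlgebraicGeometry Opposite AlgSp TensorProduct

set_option autoImplicit false
set_option linter.style.haveILetI false
set_option backward.isDefEq.respectTransparency false
set_option backward.isDefEq.respectTransparency.types false

noncomputable section

namespace Groth.L09.ModEt

variable {S : Scheme.{u}} {X : Sp S}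

/-- Presheaves of modules on the small etale site. -/
abbrev Pre (X : Sp S) : Type (u + 2) := PresheafOfModules.{u + 1} (OEtRing X).obj

/-- Sections of a presheaf of modules. -/
abbrev pSect (P : Pre X) (E : EtOver X) : Type (u + 1) := P.obj (op E)

instance pModule (P : Pre X) (E : EtOver X) : Module (Γ₀ E) (pSect P E) := Module.compHom _ (upΓ E)

/-- Restriction in a presheaf of modules. -/
def pres (P : Pre X) {E E' : EtOver X} (g : E' ⟶ E) : pSect P E →+ pSect P E' := (P.presheaf.map g.op).hom

theorem pres_smul (P : Pre X) {E E' : EtOver X} (g : E' ⟶ E) (a : Γ₀ E) (m : pSect P E) :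
    pres P g (a • m) = pb g a • pres P g m :=
  P.map_smul g.op (upΓ E a) m

theorem pres_comp (P : Pre X) {E E' E'' : EtOver X} (h : E'' ⟶ E') (g : E' ⟶ E) (m : pSect P E) :
    pres P (h ≫ g) m = pres P h (pres P g m) :=
  ConcreteCategory.congr_hom (P.presheaf.map_comp g.op h.op) m

/-- The base change map of a presheaf of modules. -/
def θP (P : Pre X) {E E' : EtOver X} (g : E' ⟶ E) :
    letI := (pb g).toAlgebra
    Γ₀ E' ⊗[Γ₀ E] pSect P E →+ pSect P E' :=
  letI := (pb g).toAlgebra
  TensorProduct.liftAddHom
    (AddMonoidHom.mk' (fun b => ((DistribSMul.toAddMonoidHom (pSect P E') b).comp (pres P g)))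
      fun b b' => AddMonoidHom.ext fun m => add_smul b b' (pres P g m))
    fun a b m => by
      show (pb g a * b) • pres P g m = b • pres P g (a • m)
      rw [pres_smul, smul_smul, mul_comm]

theorem θP_tmul (P : Pre X) {E E' : EtOver X} (g : E' ⟶ E) (b : Γ₀ E') (m : pSect P E) :
    letI := (pb g).toAlgebra
    θP P g (b ⊗ₜ m) = b • pres P g m := rfl

/-- A presheaf of modules commuting with affine base change. -/
def BCP (P : Pre X) : Prop :=
  ∀ ⦃E E' : EtOver X⦄ [IsAffine E.obj.left.left] [IsAffine E'.obj.left.left] (g : E' ⟶ E),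
    Function.Bijective (θP P g)

variable {P : Pre X} {M : ModEt X} (π : P ⟶ M.val)

/-- A map on sections. -/
def app (E : EtOver X) : pSect P E →+ sectModEt M E :=
  AddMonoidHom.mk' (fun n => π.app (op E) n) fun n n' => map_add (π.app (op E)).hom n n'

theorem papp_smul {E : EtOver X} (a : Γ₀ E) (n : pSect P E) : app π E (a • n) = a • app π E n :=
  map_smul (π.app (op E)).hom (upΓ E a) n

theorem papp_pres {E E' : EtOver X} (g : E' ⟶ E) (n : pSect P E) :
    app π E' (pres P g n) = res M g (app π E n) :=
  PresheafOfModules.naturality_apply π g.op n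

variable [Presheaf.IsLocallyInjective (etTop X) ((PresheafOfModules.toPresheaf _).map π)]

theorem app_injective (hP : BCP P) (E : EtOver X) [IsAffine E.obj.left.left] : Function.Injective (app π E) := by
  refine (injective_iff_map_eq_zero _).2 fun n hn => ?_
  obtain ⟨ι, _, V, g, hV, hR, hg⟩ := exists_finite_cover (E := E)
    (Presheaf.equalizerSieve_mem (etTop X) ((PresheafOfModules.toPresheaf _).map π) (X := op E) n 0
      (hn.trans (map_zero (app π E)).symm))
  haveI := hV
  letI := fun k => (pb (g k)).toAlgebra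
  haveI := Groth.L09.Pull.faithfullyFlat_pi hg
  refine Groth.L09.Pull.separated_pi (A := Γ₀ E) (fun k => Γ₀ (V k)) fun k => (hP (g k)).1 ?_
  rw [θP_tmul, one_smul, map_zero]
  exact (hR k).trans (map_zero (pres P (g k)))

variable [Presheaf.IsLocallySurjective (etTop X) ((PresheafOfModules.toPresheaf _).map π)]

theorem app_bijective (hP : BCP P) (E : EtOver X) [IsAffine E.obj.left.left] : Function.Bijective (app π E) := by
  refine ⟨app_injective π hP E, fun m => ?_⟩
  obtain ⟨ι, _, V, g, hV, hR, hg⟩ := exists_finite_cover (E := E)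
    (Presheaf.imageSieve_mem (etTop X) ((PresheafOfModules.toPresheaf _).map π) (U := op E) m)
  haveI := hV
  choose p hp using hR
  letI := fun k => (pb (g k)).toAlgebra
  haveI := Groth.L09.Pull.faithfullyFlat_pi hg
  choose x hx using fun k => (hP (g k)).2 (p k)
  obtain ⟨n, hn⟩ := Groth.L09.Pull.glue_pi (A := Γ₀ E) (fun k => Γ₀ (V k)) (Q := pSect P E) x fun k l => by
    refine Exists.elim (Groth.L09.Pull.exists_split (g := g) k l) fun ψ hψ => ?_
    let p₁ := EtOver.pullbackFst (g k) (g l)
    let p₂ := EtOver.pullbackSnd (g k) (g l)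
    haveI : IsAffine (EtOver.pullbackObj (g k) (g l)).obj.left.left := isAffine_pullback _ _
    letI := (pb (p₁ ≫ g k)).toAlgebra
    let ψA : Γ₀ (EtOver.pullbackObj (g k) (g l)) →ₗ[Γ₀ E] Γ₀ (V k) ⊗[Γ₀ E] Γ₀ (V l) :=
      { toFun := ψ
        map_add' := map_add ψ
        map_smul' := fun r b => by
          show ψ (pb (p₁ ≫ g k) r * b) = r • ψ b
          rw [pb_comp, map_mul, hψ.1, Algebra.smul_def, Algebra.TensorProduct.algebraMap_apply]
          rfl }
    let e := TensorProduct.assoc (Γ₀ E) (Γ₀ (V k)) (Γ₀ (V l)) (pSect P E)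
    let f₁ : Γ₀ (V k) →ₗ[Γ₀ E] Γ₀ (EtOver.pullbackObj (g k) (g l)) :=
      { toFun := pb p₁
        map_add' := map_add (pb p₁)
        map_smul' := fun r b => by
          show pb p₁ (pb (g k) r * b) = pb (p₁ ≫ g k) r * pb p₁ b
          rw [map_mul, pb_comp] }
    let f₂ : Γ₀ (V l) →ₗ[Γ₀ E] Γ₀ (EtOver.pullbackObj (g k) (g l)) :=
      { toFun := pb p₂
        map_add' := map_add (pb p₂)
        map_smul' := fun r b => by
          show pb p₂ (pb (g l) r * b) = pb (p₁ ≫ g k) r * pb p₂ b
          rw [map_mul, ← pb_comp, EtOver.pullback_condition] }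
    have h₁ : ∀ z, LinearMap.lTensor (Γ₀ (V k)) (TensorProduct.mk (Γ₀ E) (Γ₀ (V l)) (pSect P E) 1) z =
        e (LinearMap.rTensor _ ψA (LinearMap.rTensor _ f₁ z)) := fun z => by
      induction z using TensorProduct.induction_on with
      | zero => simp
      | tmul b q => simp [e, f₁, ψA, p₁, hψ.1]
      | add z z' hz hz' => simp only [map_add, hz, hz']
    have h₂ : ∀ z, (1 : Γ₀ (V k)) ⊗ₜ[Γ₀ E] z = e (LinearMap.rTensor _ ψA (LinearMap.rTensor _ f₂ z)) := fun z => by
      induction z using TensorProduct.induction_on with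
      | zero => simp
      | tmul b q => simp [e, f₂, ψA, p₂, hψ.2]
      | add z z' hz hz' => simp only [map_add, TensorProduct.tmul_add, hz, hz']
    have hθ₁ : ∀ z, θP P (p₁ ≫ g k) (LinearMap.rTensor _ f₁ z) = pres P p₁ (θP P (g k) z) := fun z => by
      induction z using TensorProduct.induction_on with
      | zero => simp
      | tmul b q =>
        show pb p₁ b • pres P (p₁ ≫ g k) q = pres P p₁ (b • pres P (g k) q)
        rw [pres_smul, pres_comp]
      | add z z' hz hz' => simp only [map_add, hz, hz']
    have hθ₂ : ∀ z, θP P (p₁ ≫ g k) (LinearMap.rTensor _ f₂ z) = pres P p₂ (θP P (g l) z) := fun z => by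
      induction z using TensorProduct.induction_on with
      | zero => simp
      | tmul b q =>
        show pb p₂ b • pres P (p₁ ≫ g k) q = pres P p₂ (b • pres P (g l) q)
        rw [pres_smul, ← pres_comp, EtOver.pullback_condition]
      | add z z' hz hz' => simp only [map_add, hz, hz']
    rw [h₁, h₂]
    refine congrArg (fun t => e (LinearMap.rTensor _ ψA t)) ((hP (p₁ ≫ g k)).1 ?_)
    rw [hθ₁, hθ₂, hx, hx]
    refine app_injective π hP _ ?_
    rw [papp_pres, papp_pres]
    show res M p₂ (app π _ (p l)) = res M p₁ (app π _ (p k))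
    rw [show app π _ (p l) = res M (g l) m from hp l, show app π _ (p k) = res M (g k) m from hp k]
    exact (res_congr M (EtOver.pullback_condition (g k) (g l)) m).symm
  refine ⟨n, eq_of_cover M hg fun k => ?_⟩
  rw [← papp_pres, ← show app π _ (p k) = res M (g k) m from hp k, ← hx k, ← hn k, θP_tmul, one_smul]

include π in
theorem bc_of_bcp (hP : BCP P) {E E' : EtOver X} [IsAffine E.obj.left.left] [IsAffine E'.obj.left.left]
    (g : E' ⟶ E) : BC M g := by
  letI := (pb g).toAlgebra
  let πE : pSect P E →ₗ[Γ₀ E] sectModEt M E :=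
    { toFun := app π E, map_add' := map_add _, map_smul' := papp_smul π }
  let L := (LinearEquiv.ofBijective πE (app_bijective π hP E)).lTensor (Γ₀ E')
  have key : ∀ x, θ M g (L x) = app π E' (θP P g x) := fun x => by
    induction x using TensorProduct.induction_on with
    | zero => simp
    | tmul b n =>
      show b • res M g (app π E n) = app π E' (b • pres P g n)
      rw [papp_smul, papp_pres]
    | add x y hx hy => simp only [map_add, hx, hy]
  have : Function.Bijective fun x => θ M g (L x) := by
    rw [funext key]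
    exact (app_bijective π hP E').comp (hP g)
  exact (Function.Bijective.of_comp_iff _ L.bijective).1 this

include π in
theorem isQuasicoherent_of_bcp (hP : BCP P) : M.IsQuasicoherent := by
  refine isQuasicoherent_of_bc M (ι := ULift.{u + 1} {E : EtOver X // IsAffine E.obj.left.left})
    (fun i => i.down.1) (fun Z => ?_) fun i W' _ g => ?_
  · refine (etTop X).superset_covering ?_ (ofArrows_mem_etTop _ _ (Groth.L09.Pull.isCover_affineOpens Z))
    rintro V h hh
    obtain ⟨B, l, rfl⟩ := (Sieve.mem_ofArrows_iff _ _ _).1 hh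
    exact ⟨⟨⟨openObj Z B.1, B.2⟩⟩, ⟨l⟩⟩
  · haveI := i.down.2
    exact bc_of_bcp π hP g

end Groth.L09.ModEt
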