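import Groth.Agent.L09.ModEt.WeakAss
import Groth.Agent.L03.WeakAss

/-!
# Exact sequences, sections and weakly associated points
-/

universe u v

open CategoryTheory CategoryTheory.Limits AlgebraicGeometry Opposite AlgSp TensorProduct

set_option autoImplicit false
set_option linter.style.haveILetI false
set_option backward.isDefEq.respectTransparency false
set_option backward.isDefEq.respectTransparency.types false

noncomputable section

namespace Groth.L09.WA

variable {A B : Type u} [CommRing A] [CommRing B] [Algebra A B] {N : Type v} [AddCommGroup N] [Module A N]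

theorem one_tmul_ne_zero [Module.Flat A B] {n : N} (q : Ideal B) [q.IsPrime] (h : ann A n ≤ q.under A) :
    (1 : B) ⊗ₜ[A] n ≠ 0 := fun hn => by
  have hex := Module.Flat.lTensor_exact B (LinearMap.exact_subtype_ker_map (LinearMap.toSpanSingleton A N n))
  obtain ⟨z, hz⟩ := (hex ((1 : B) ⊗ₜ (1 : A))).1 (by simpa using hn)
  have key : ∀ z : B ⊗[A] ann A n, TensorProduct.rid A B (LinearMap.lTensor B (ann A n).subtype z) ∈ q := fun z => by
    induction z using TensorProduct.induction_on with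
    | zero => simp
    | tmul c a =>
      rw [LinearMap.lTensor_tmul, TensorProduct.rid_tmul, Algebra.smul_def]
      exact q.mul_mem_right _ (h a.2)
    | add x y hx hy => rw [map_add, map_add]; exact q.add_mem hx hy
  have := key z
  rw [hz, TensorProduct.rid_tmul, one_smul] at this
  exact (‹q.IsPrime›).ne_top (q.eq_top_iff_one.2 this)

theorem isWA_exact {N₁ N₃ : Type v} [AddCommGroup N₁] [Module A N₁] [AddCommGroup N₃] [Module A N₃]
    (f : N₁ →ₗ[A] N) (g : N →ₗ[A] N₃) (hf : Function.Injective f) (hfg : Function.Exact f g) {p : Ideal A}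
    (h : IsWA A N p) : IsWA A N₁ p ∨ IsWA A N₃ p := by
  obtain ⟨m, hm⟩ := h
  haveI := hm.1.1
  by_cases hg : ann A (g m) ≤ p
  · refine Or.inr ⟨g m, ⟨hm.1.1, hg⟩, fun P hP hPp => hm.2 ⟨hP.1, fun a ha => hP.2 ?_⟩ hPp⟩
    rw [mem_ann] at ha ⊢
    rw [← map_smul, ha, map_zero]
  · obtain ⟨a, ha, hap⟩ := SetLike.not_le_iff_exists.1 hg
    obtain ⟨m₁, hm₁⟩ := (hfg (a • m)).1 (by rw [map_smul]; exact ha)
    have hann : ∀ r, r ∈ ann A m₁ ↔ r * a ∈ ann A m := fun r => by
      rw [mem_ann, mem_ann, ← map_eq_zero_iff f hf, map_smul, hm₁, smul_smul]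
    refine Or.inl ⟨m₁, ⟨hm.1.1, fun r hr => ((hm.1.1.mem_or_mem (hm.1.2 ((hann r).1 hr))).resolve_right hap)⟩,
      fun P hP hPp => hm.2 ⟨hP.1, fun r hr => hP.2 ((hann r).2 ?_)⟩ hPp⟩
    rw [mem_ann] at hr ⊢
    rw [mul_comm, mul_smul, hr, smul_zero]

theorem isWA_of_injective {N' : Type v} [AddCommGroup N'] [Module A N'] (f : N →ₗ[A] N')
    (hf : Function.Injective f) {p : Ideal A} (h : IsWA A N p) : IsWA A N' p := by
  obtain ⟨n, hn⟩ := h
  refine ⟨f n, ?_⟩
  rwa [show ann A (f n) = ann A n from Ideal.ext fun a => by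
    rw [mem_ann, mem_ann, ← map_smul, map_eq_zero_iff f hf]]

theorem isWA_self_iff [_root_.IsReduced A] {p : Ideal A} : IsWA A A p ↔ p ∈ minimalPrimes A := by
  constructor
  · rintro ⟨s, hs⟩
    haveI := hs.1.1
    refine ⟨⟨hs.1.1, bot_le⟩, fun Q hQ hQp => ?_⟩
    by_cases hsQ : s ∈ Q
    · obtain ⟨-, -, hmin⟩ := Groth.L03.WeakAss.minimalPrimes_iff.1 hs
      by_contra hne
      obtain ⟨a, hap, haQ⟩ : ∃ a ∈ p, a ∉ Q := SetLike.not_le_iff_exists.1 hne
      -- `s` lies in a prime below `p`, so `s ∈ p` and `s` is nilpotent near `p`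
      obtain ⟨t, ht, n, hn⟩ := hmin s (hQp hsQ)
      have h0 : (t * s) ^ (n + 1) = 0 := by
        have hn' : t * s ^ n * s = 0 := hn
        rw [mul_pow, pow_succ' t, pow_succ s, show t * t ^ n * (s ^ n * s) = t ^ n * (t * s ^ n * s) by ring, hn',
          mul_zero]
      have hts : t • s = 0 := IsReduced.eq_zero _ ⟨n + 1, h0⟩
      exact ht (hs.1.2 hts)
    · exact hs.2 ⟨hQ.1, fun a ha => (hQ.1.mem_or_mem (show a * s ∈ Q by
        rw [show a * s = a • s from rfl, mem_ann.1 ha]; exact Q.zero_mem)).resolve_right hsQ⟩ hQp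
  · intro hp
    refine ⟨1, ?_⟩
    rwa [show ann A (1 : A) = ⊥ from Ideal.ext fun a => by simp [mem_ann]]

end Groth.L09.WA

namespace Groth.L09.ModEt

open Groth.L09.WA

variable {S : Scheme.{u}} {X : Sp S}

/-- Sections of a morphism of modules. -/
def sectMap {M N : ModEt X} (f : M ⟶ N) (E : EtOver X) : sectModEt M E →ₗ[Γ₀ E] sectModEt N E where
  toFun := f.val.app (op E)
  map_add' := map_add (f.val.app (op E)).hom
  map_smul' r m := map_smul (f.val.app (op E)).hom (upΓ E r) m

theorem weakAss_shortExact (C : ShortComplex (ModEt X)) (hC : C.ShortExact) :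
    WeakAssEt C.X₂ ⊆ WeakAssEt C.X₁ ∪ WeakAssEt C.X₃ ∧ WeakAssEt C.X₁ ⊆ WeakAssEt C.X₂ := by
  have hmono : Mono C.f := hC.mono_f
  have h₁ : ∀ E, Function.Injective (sectMap C.f E) ∧ Function.Exact (sectMap C.f E) (sectMap C.g E) := fun E => by
    haveI : (SheafOfModules.evaluation (OEtRing X) (op E)).PreservesZeroMorphisms := ⟨fun _ _ => rfl⟩
    have hex := (hC.exact.map_of_mono_of_preservesKernel (SheafOfModules.evaluation (OEtRing X) (op E))
      hmono inferInstance)
    rw [ShortComplex.ShortExact.moduleCat_exact_iff_function_exact] at hex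
    refine ⟨fun a b h => ?_, fun m => hex m⟩
    exact (ModuleCat.mono_iff_injective ((SheafOfModules.evaluation (OEtRing X) (op E)).map C.f)).1 inferInstance h
  refine ⟨?_, ?_⟩
  · rintro x ⟨E, hE, u, rfl, h⟩
    rcases isWA_exact _ _ (h₁ E).1 (h₁ E).2 h with h' | h'
    · exact Or.inl ⟨E, hE, u, rfl, h'⟩
    · exact Or.inr ⟨E, hE, u, rfl, h'⟩
  · rintro x ⟨E, hE, u, rfl, h⟩
    exact ⟨E, hE, u, rfl, isWA_of_injective _ (h₁ E).1 h⟩

theorem injective_eval (M : ModEt X) [M.IsQuasicoherent] (E : EtOver X)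
    (hE : WeakAssEt M ⊆ Set.range (Points.ofPt E.obj.hom)) :
    Function.Injective (fun s : M.sections => PresheafOfModules.sections.eval s (op E)) := by
  intro s t hst
  refine Subtype.ext (funext fun V => sub_eq_zero.1 (res_eq_zero_of_affine M V.unop fun V' g hV' => ?_))
  haveI := hV'
  have hd : res M g (s.eval V - t.eval V) = s.eval (op V') - t.eval (op V') := by
    rw [map_sub]
    exact congrArg₂ (· - ·) (s.2 g.op) (t.2 g.op)
  refine hd.trans ?_
  by_contra hne
  obtain ⟨u, hu, hle⟩ := exists_isWeakAssOn_of_ne_zero M hne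
  obtain ⟨e, he⟩ := hE ⟨V', hV', u, rfl, hu⟩
  obtain ⟨W, hW, g₁, g₂, w, hw₁, -⟩ := exists_common u e he.symm
  haveI := hW
  letI := (pb g₁).toAlgebra
  haveI : Module.Flat (Γ₀ V') (Γ₀ W) := flat_pb g₁
  refine WA.one_tmul_ne_zero (A := Γ₀ V') (n := s.eval (op V') - t.eval (op V'))
    (primeAtPt W.obj.left.left w) ?_ ((bc_of_isQuasicoherent M g₁).1 ?_)
  · show _ ≤ (primeAtPt W.obj.left.left w).comap g₁.hom.left.left.appTop.hom
    rw [comap_primeAtPt, hw₁]
    exact hle
  · rw [map_zero]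
    show (1 : Γ₀ W) • res M g₁ (s.eval (op V') - t.eval (op V')) = 0
    rw [one_smul, map_sub]
    have h' : ∀ r : M.sections, res M g₁ (r.eval (op V')) = res M g₂ (r.eval (op E)) := fun r =>
      (r.2 g₁.op).trans (r.2 g₂.op).symm
    rw [h', h', sub_eq_zero]
    exact congrArg (res M g₂) hst

theorem isWeakAssOn_unit_iff (E : EtOver X) [IsAffine E.obj.left.left] [_root_.IsReduced (Γ₀ E)]
    (u : E.obj.left.left) :
    IsWeakAssOn (unitModEt X) E u ↔ ringKrullDim (E.obj.left.left.presheaf.stalk u) = 0 := by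
  let e : sectModEt (unitModEt X) E ≃ₗ[Γ₀ E] Γ₀ E :=
    { toFun := fun x => (x : ULift.{u + 1} Γ(E.obj.left.left, ⊤)).down
      invFun := fun x => (ULift.up x : ULift.{u + 1} Γ(E.obj.left.left, ⊤))
      left_inv := fun _ => rfl
      right_inv := fun _ => rfl
      map_add' := fun _ _ => rfl
      map_smul' := fun _ _ => rfl }
  rw [isWeakAssOn_iff_isWA, isWA_iff_of_equiv e, isWA_self_iff]
  let U := E.obj.left.left
  letI : Algebra Γ(U, ⊤) (U.presheaf.stalk u) := (U.presheaf.germ ⊤ u trivial).hom.toAlgebra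
  haveI : IsLocalization.AtPrime (U.presheaf.stalk u) (primeAtPt U u) := by
    have h := (isAffineOpen_top U).isLocalization_stalk ⟨u, trivial⟩
    have he : ((isAffineOpen_top U).primeIdealOf ⟨u, trivial⟩).asIdeal = primeAtPt U u := by
      rw [IsAffineOpen.primeIdealOf_eq_map_closedPoint]; rfl
    simp only [he] at h
    exact h
  rw [IsLocalization.AtPrime.ringKrullDim_eq_height (primeAtPt U u) (U.presheaf.stalk u),
    WithBot.coe_eq_zero, Ideal.height_eq_zero_iff]

theorem dim_stalk_open {U : Scheme.{u}} (B : U.Opens) (x : B) :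
    ringKrullDim (B.toScheme.presheaf.stalk x) = ringKrullDim (U.presheaf.stalk x.1) :=
  ringKrullDim_eq_of_ringEquiv (B.stalkIso x).commRingCatIsoToRingEquiv

theorem mem_weakAssEt_unit_iff [(unitModEt X).IsQuasicoherent] (hX : IsAlgSpace X)
    (hred : ∀ E : EtOver X, IsReduced E.obj.left.left) (x : Points X) :
    x ∈ WeakAssEt (unitModEt X) ↔ HasAt (fun U u => ringKrullDim ↥(U.presheaf.stalk u) = 0) X x := by
  haveI := hred
  rw [mem_weakAssEt_iff _ hX]
  constructor
  · intro h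
    obtain ⟨E, hE, u, hu⟩ := exists_affine_chart hX x
    exact ⟨E.obj.left, E.obj.hom, u, E.property, hu, (isWeakAssOn_unit_iff E u).1 (h E u hu)⟩
  · rintro ⟨U, a, u, ha, rfl, hdim⟩ E _ e he
    obtain ⟨_, ⟨(B : U.left.Opens), hB, rfl⟩, huB, -⟩ :=
      U.left.isBasis_affineOpens.exists_subset_of_mem_open (Set.mem_univ u) isOpen_univ
    let W : EtOver X := openObj (EtOver.mk a ha) B
    haveI : IsAffine W.obj.left.left := hB
    let w : W.obj.left.left := ⟨u, huB⟩
    have hw : Points.ofPt W.obj.hom w = Points.ofPt a u :=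
      Groth.L23.ofPt_comp (Over.homMk B.ι rfl : Over.mk (B.ι ≫ U.hom) ⟶ U) a w
    haveI := hred W
    exact (isWeakAssOn_congr _ e w (he.trans hw.symm)).2 ((isWeakAssOn_unit_iff W w).2
      ((dim_stalk_open B w).trans hdim))

end Groth.L09.ModEt
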